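import Cfsg.Agent.Lib.Lie.Mult.TwEngine
import Cfsg.Agent.Lib.Lie.Chev.Tw.F4Gp
import Cfsg.Agent.Lib.Lie.Chev.Cent
import Cfsg.Agent.Lib.Lie.Suz.Cyclic

/-!
# The rank-one subgroup of Suzuki type of `²F₄`

On the four root vectors of degree `(1, 0)` it acts as the Suzuki group on its natural module, faithfully.
-/

set_option autoImplicit false
set_option maxRecDepth 100000
set_option maxHeartbeats 1000000
set_option linter.unusedSectionVars false
set_option linter.unusedSimpArgs false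

namespace CfsgLib.Lie.Mult.TF4Levi

open Cfsg.Lie CfsgLib.Lie.Chev
open scoped MatrixGroups

/-- the four root vectors -/
def σ : Fin 4 → chevF4.Idx := fun i => Sum.inr (![TF4.rt 37, TF4.rt 35, TF4.rt 34, TF4.rt 33] i)

theorem σ_inj : ∀ i j, σ i = σ j → i = j := by decide +kernel

theorem σ_range : ∀ c : chevF4.Idx,
    (∃ m, m ∉ orbGraphF4.nodes chevF4 TF4.o1 ∧ weight chevF4 TF4.C.G.rho c m ≠ weight chevF4 TF4.C.G.rho (σ 0) m) ∨
      ∃ i, σ i = c := by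
  decide +kernel

theorem σ_weight : ∀ i m, m ∈ orbGraphF4.nodes chevF4 TF4.o1 ∨
    weight chevF4 TF4.C.G.rho (σ i) m = weight chevF4 TF4.C.G.rho (σ 0) m := by
  decide +kernel

/-- the entries of a root element on the block -/
noncomputable def entry (r k : ℕ) (i j : Fin 4) : ℤ := coef (act chevF4 r k (pos chevF4 (σ j))) (pos chevF4 (σ i))

/-- the position of the unit entries -/
def unitPos (r : ℕ) (i j : Fin 4) : Bool :=
  ((r = 27 ∧ ((i = 0 ∧ j = 1) ∨ (i = 2 ∧ j = 3))) ∨ (r = 25 ∧ i = 1 ∧ j = 2) ∨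
    (r = 28 ∧ ((i = 0 ∧ j = 2) ∨ (i = 1 ∧ j = 3))) ∨ (r = 30 ∧ i = 0 ∧ j = 3) ∨
    (r = 20 ∧ ((i = 1 ∧ j = 0) ∨ (i = 3 ∧ j = 2))) ∨ (r = 22 ∧ i = 2 ∧ j = 1) ∨
    (r = 19 ∧ ((i = 2 ∧ j = 0) ∨ (i = 3 ∧ j = 1))) ∨ (r = 17 ∧ i = 3 ∧ j = 0) : Bool)

theorem entry_ok : ∀ r ∈ [27, 25, 28, 30, 20, 22, 19, 17], ∀ i j,
    entry r 1 i j % 2 = (if unitPos r i j then 1 else 0) ∧ entry r 2 i j % 2 = 0 ∧ entry r 3 i j % 2 = 0 := by
  decide +kernel

theorem inJ_ok : ∀ r ∈ [27, 25, 28, 30, 20, 22, 19, 17], ∀ (h : r < chevF4.nroots) (m : Fin chevF4.rank),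
    m ∉ orbGraphF4.nodes chevF4 TF4.o1 → TF4.C.G.rho ⟨r, h⟩ m = 0 := by
  decide +kernel

theorem σ_eq {i j : Fin 4} : σ i = σ j ↔ i = j := ⟨σ_inj i j, congrArg σ⟩

variable {K : Type*} [Field K] [CharP K 2] (θ : K ≃+* K) (hsq : ∀ x, θ.symm x = θ x ^ 2)

/-- the block of a matrix -/
def blk (M : Matrix chevF4.Idx chevF4.Idx K) : Matrix (Fin 4) (Fin 4) K := M.submatrix σ σ

theorem parity (n : ℤ) : (n : K) = ((n % 2 : ℤ) : K) := by
  conv_lhs => rw [← Int.emod_add_mul_ediv n 2]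
  push_cast
  rw [show (2 : K) = 0 from CharTwo.two_eq_zero, zero_mul, add_zero]

theorem blk_xu {r : ℕ} (hr : r ∈ [27, 25, 28, 30, 20, 22, 19, 17]) (h : r < chevF4.nroots) (t : K) :
    blk (TF4.C.G.xu ⟨r, h⟩ t : Matrix chevF4.Idx chevF4.Idx K) =
      1 + t • Matrix.of (fun i j => if unitPos r i j then (1 : K) else 0) := by
  ext i j
  obtain ⟨h1, h2, h3⟩ := entry_ok r hr i j
  simp only [blk, Matrix.submatrix_apply, Good.coe_xu, xg_apply, Matrix.add_apply, Matrix.smul_apply,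
    Matrix.of_apply, smul_eq_mul, Matrix.one_apply]
  simp only [σ_eq]
  change _ + t * ((entry r 1 i j : ℤ) : K) + t ^ 2 * ((entry r 2 i j : ℤ) : K) + t ^ 3 * ((entry r 3 i j : ℤ) : K) = _
  rw [parity (entry r 1 i j), parity (entry r 2 i j), parity (entry r 3 i j), h1, h2, h3]
  split_ifs <;> simp

include hsq

theorem blk_mul {M N : Matrix chevF4.Idx chevF4.Idx K}
    (hM : GradedJ TF4.C.G ((TF4.orbits θ hsq).J TF4.o1) M) : blk (M * N) = blk M * blk N := by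
  ext i j
  simp only [blk, Matrix.submatrix_apply, Matrix.mul_apply]
  refine (Finset.sum_of_injOn σ (fun a _ b _ e => σ_inj a b e) (fun x _ => Finset.mem_univ _)
    (fun c _ hc => ?_) fun k _ => rfl).symm
  by_contra hne
  have hMc := left_ne_zero_of_mul hne
  rcases σ_range c with ⟨m, hm, hm'⟩ | ⟨k, rfl⟩
  · exact hm' ((hM (σ i) c hMc m hm).symm.trans ((σ_weight i m).resolve_left hm))
  · exact hc ⟨k, Finset.mem_coe.2 (Finset.mem_univ k), rfl⟩

/-- the representation on the block -/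
noncomputable def rep : ↥(LJ TF4.C.G ((TF4.orbits θ hsq).J TF4.o1) : Subgroup (GL chevF4.Idx K)) →* GL (Fin 4) K :=
  MonoidHom.toHomUnits
    { toFun := fun g => blk ((g : GL chevF4.Idx K) : Matrix chevF4.Idx chevF4.Idx K)
      map_one' := by
        ext i j
        simp only [blk, Subgroup.coe_one, Units.val_one, Matrix.submatrix_apply, Matrix.one_apply]
        simp only [σ_eq]
      map_mul' := fun a b => by
        rw [Subgroup.coe_mul, Units.val_mul]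
        exact blk_mul θ hsq (TF4.C.G.gradedJ_LJ a.2) }

theorem rep_val (g : ↥(LJ TF4.C.G ((TF4.orbits θ hsq).J TF4.o1) : Subgroup (GL chevF4.Idx K))) :
    (rep θ hsq g : Matrix (Fin 4) (Fin 4) K) = blk ((g : GL chevF4.Idx K) : Matrix chevF4.Idx chevF4.Idx K) := rfl

theorem xu_LJ {r : ℕ} (hr : r ∈ [27, 25, 28, 30, 20, 22, 19, 17]) (h : r < chevF4.nroots) (t : K) :
    TF4.C.G.xu ⟨r, h⟩ t ∈ (LJ TF4.C.G ((TF4.orbits θ hsq).J TF4.o1) : Subgroup (GL chevF4.Idx K)) :=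
  Subgroup.subset_closure ⟨_, t, fun m hm => inJ_ok r hr h m hm, rfl⟩

omit hsq

/-- the Suzuki translation -/
def tm (a b : K) (m : ℕ) : Matrix (Fin 4) (Fin 4) K := CfsgLib.Lie.Suz.Tm m a b

include hsq

theorem blk_prod4 {a b c d : ℕ} (ha : a ∈ [27, 25, 28, 30, 20, 22, 19, 17]) (hb : b ∈ [27, 25, 28, 30, 20, 22, 19, 17])
    (hc : c ∈ [27, 25, 28, 30, 20, 22, 19, 17]) (hd : d ∈ [27, 25, 28, 30, 20, 22, 19, 17]) (ha' : a < chevF4.nroots)
    (hb' : b < chevF4.nroots) (hc' : c < chevF4.nroots) (hd' : d < chevF4.nroots) (p q r s : K) :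
    blk (((TF4.C.G.xu ⟨a, ha'⟩ p * TF4.C.G.xu ⟨b, hb'⟩ q * TF4.C.G.xu ⟨c, hc'⟩ r * TF4.C.G.xu ⟨d, hd'⟩ s :
        GL chevF4.Idx K)) : Matrix chevF4.Idx chevF4.Idx K) =
      (1 + p • Matrix.of (fun i j => if unitPos a i j then (1 : K) else 0)) *
      (1 + q • Matrix.of (fun i j => if unitPos b i j then (1 : K) else 0)) *
      (1 + r • Matrix.of (fun i j => if unitPos c i j then (1 : K) else 0)) *
      (1 + s • Matrix.of (fun i j => if unitPos d i j then (1 : K) else 0)) := by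
  have g := fun (x : ℕ) hx hx' (t : K) => TF4.C.G.gradedJ_LJ (xu_LJ θ hsq (r := x) hx hx' t)
  simp only [Units.val_mul]
  rw [blk_mul θ hsq (TF4.C.G.gradedJ_mul (TF4.C.G.gradedJ_mul (g a ha ha' p) (g b hb hb' q)) (g c hc hc' r)),
    blk_mul θ hsq (TF4.C.G.gradedJ_mul (g a ha ha' p) (g b hb hb' q)), blk_mul θ hsq (g a ha ha' p),
    blk_xu ha ha', blk_xu hb hb', blk_xu hc hc', blk_xu hd hd']

variable {m : ℕ} (hθ : ∀ x, θ x = x ^ 2 ^ m)
include hθ

theorem th_eq (x : K) : CfsgLib.Lie.Suz.th m x = θ.symm x := by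
  rw [hsq, hθ, CfsgLib.Lie.Suz.th, ← pow_mul, pow_succ]

theorem blk_be (t u : K) :
    blk ((TF4.b2 θ (TF4.rt 27) (TF4.rt 25) (TF4.rt 28) (TF4.rt 30) t u : GL chevF4.Idx K) :
      Matrix chevF4.Idx chevF4.Idx K) = CfsgLib.Lie.Suz.Tm m (θ t) (θ t * t + u) := by
  rw [TF4.b2]
  unfold TF4.rt
  rw [blk_prod4 θ hsq (by simp) (by simp) (by simp) (by simp)]
  have h2 : (2 : K) = 0 := CharTwo.two_eq_zero
  have e1 : CfsgLib.Lie.Suz.th m (θ t) = t := by rw [th_eq θ hsq hθ, RingEquiv.symm_apply_apply]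
  have e2 : CfsgLib.Lie.Suz.th m (θ t * t + u) = t * θ t ^ 2 + θ.symm u := by
    rw [th_eq θ hsq hθ, map_add, map_mul, RingEquiv.symm_apply_apply, hsq]
  simp only [CfsgLib.Lie.Suz.Tm, CfsgLib.Lie.Suz.fO, e1, e2]
  ext i j
  fin_cases i <;> fin_cases j <;>
    simp [Matrix.mul_apply, Fin.sum_univ_four, unitPos, Matrix.one_apply] <;>
    grind

theorem blk_bn (t u : K) :
    blk ((TF4.b2 θ (TF4.rt 20) (TF4.rt 22) (TF4.rt 19) (TF4.rt 17) t u : GL chevF4.Idx K) :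
      Matrix chevF4.Idx chevF4.Idx K) =
        CfsgLib.Lie.Suz.Wm * CfsgLib.Lie.Suz.Tm m (θ t) (θ t * t + u) * CfsgLib.Lie.Suz.Wm := by
  rw [TF4.b2]
  unfold TF4.rt
  rw [blk_prod4 θ hsq (by simp) (by simp) (by simp) (by simp)]
  have h2 : (2 : K) = 0 := CharTwo.two_eq_zero
  have e1 : CfsgLib.Lie.Suz.th m (θ t) = t := by rw [th_eq θ hsq hθ, RingEquiv.symm_apply_apply]
  have e2 : CfsgLib.Lie.Suz.th m (θ t * t + u) = t * θ t ^ 2 + θ.symm u := by
    rw [th_eq θ hsq hθ, map_add, map_mul, RingEquiv.symm_apply_apply, hsq]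
  simp only [CfsgLib.Lie.Suz.Tm, CfsgLib.Lie.Suz.Wm, CfsgLib.Lie.Suz.fO, e1, e2]
  ext i j
  fin_cases i <;> fin_cases j <;>
    simp [Matrix.mul_apply, Fin.sum_univ_four, unitPos, Matrix.one_apply] <;>
    grind

omit hθ hsq in
/-- a translation is trivial only with trivial parameters -/
theorem Tm_eq_one {t u : K} (h : CfsgLib.Lie.Suz.Tm m (θ t) (θ t * t + u) = 1) : t = 0 ∧ u = 0 := by
  have h01 := congrFun (congrFun h 0) 1
  have h13 := congrFun (congrFun h 1) 3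
  simp [CfsgLib.Lie.Suz.Tm] at h01 h13
  exact ⟨h01, by simpa [h01] using h13⟩

variable [Fintype K] (hP : TwGp (TF4.orbits θ hsq) (twistedF4 K (2 ^ m)))

theorem card_Uinv1 : Nat.card ↥(TwEngine.Xg (TF4.orbits θ hsq) (twistedF4 K (2 ^ m)) TF4.o1) = Nat.card (K × K) := by
  have hle : (TF4.twist θ hsq).Fix ⊓ Uinv TF4.C.G ((TF4.orbits θ hsq).wO TF4.o1) ≤ twistedF4 K (2 ^ m) :=
    fun g hg => by
      obtain ⟨t, u, rfl⟩ := TF4.X_b2 θ hsq hg
      exact (TF4.b2_mem θ hsq hθ t u).1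
  rw [TwEngine.Xg, Nat.card_congr (Subgroup.subgroupOfEquivOfLe hle).toEquiv, TF4.card_orb θ hsq hθ,
    Nat.card_prod, ← pow_two]
  congr 1
  classical
  rw [show ninv TF4.C.G ((TF4.orbits θ hsq).wO TF4.o1) = (TF4.L TF4.o1).length by
    rw [← TF4.L_eq θ hsq TF4.o1, ninv, ← List.toFinset_card_of_nodup ((List.nodup_finRange _).filter _), List.toFinset_filter,
      List.toFinset_finRange]
    simp]
  rfl

include hP

/-- the negative family is the opposite root subgroup -/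
theorem Xng_eq {g : ↥(twistedF4 K (2 ^ m))} (hg : g ∈ TwEngine.Xng hP TF4.o1) :
    ∃ t u, (g : GL chevF4.Idx K) = TF4.b2 θ (TF4.rt 20) (TF4.rt 22) (TF4.rt 19) (TF4.rt 17) t u := by
  classical
  set bn : K × K → ↥(twistedF4 K (2 ^ m)) := fun x =>
    ⟨TF4.b2 θ (TF4.rt 20) (TF4.rt 22) (TF4.rt 19) (TF4.rt 17) x.1 x.2, (TF4.b2_mem θ hsq hθ x.1 x.2).2⟩
  have hmem : ∀ x, bn x ∈ TwEngine.Xng hP TF4.o1 := by
    intro x
    have hn := hP.toPre.nk_perm TF4.o1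
    have hperm := Good.NPerm.inv TF4.C.G hn
    have key : ∀ (r : ℕ) (hr : r < chevF4.nroots), r ∈ [20, 22, 19, 17] → ∀ z : K,
        (hP.toPre.nk TF4.o1)⁻¹ * TF4.C.G.xu ⟨r, hr⟩ z * hP.toPre.nk TF4.o1 ∈
          (Uinv TF4.C.G ((TF4.orbits θ hsq).wO TF4.o1) : Subgroup (GL chevF4.Idx K)) := by
      intro r hr hrm z
      obtain ⟨a, ha⟩ := hperm ⟨r, hr⟩
      have := ha z
      rw [inv_inv] at this
      rw [this, (TF4.orbits θ hsq).wO_inv]
      refine TF4.xu_mem_Uinv θ hsq ?_ _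
      have h : ∀ r ∈ [20, 22, 19, 17], digit (orbGraphF4.tab.get TF4.o1.val) r ∈ [25, 27, 28, 30] := by decide +kernel
      have hv := h r hrm
      rw [← TF4.wO_val θ hsq TF4.o1 ⟨r, hr⟩] at hv
      show _ ∈ [TF4.rt 25, TF4.rt 27, TF4.rt 28, TF4.rt 30]
      simp only [List.mem_cons, List.not_mem_nil, or_false] at hv ⊢
      rcases hv with h | h | h | h
      · exact Or.inl (Fin.ext h)
      · exact Or.inr (Or.inl (Fin.ext h))
      · exact Or.inr (Or.inr (Or.inl (Fin.ext h)))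
      · exact Or.inr (Or.inr (Or.inr (Fin.ext h)))
    refine ⟨(TwEngine.nkG hP TF4.o1)⁻¹ * bn x * TwEngine.nkG hP TF4.o1, ?_, ?_⟩
    · refine Subgroup.mem_subgroupOf.2 (Subgroup.mem_inf.2
        ⟨hP.le ((TwEngine.nkG hP TF4.o1)⁻¹ * bn x * TwEngine.nkG hP TF4.o1).2, ?_⟩)
      show (hP.toPre.nk TF4.o1)⁻¹ * TF4.b2 θ (TF4.rt 20) (TF4.rt 22) (TF4.rt 19) (TF4.rt 17) x.1 x.2 *
        hP.toPre.nk TF4.o1 ∈ _
      rw [TF4.b2]
      have e : ∀ a b c d n : GL chevF4.Idx K, n⁻¹ * (a * b * c * d) * n =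
          (n⁻¹ * a * n) * (n⁻¹ * b * n) * (n⁻¹ * c * n) * (n⁻¹ * d * n) := fun a b c d n => by group
      rw [e]
      exact mul_mem (mul_mem (mul_mem (key 20 _ (by simp) _) (key 22 _ (by simp) _)) (key 19 _ (by simp) _))
        (key 17 _ (by simp) _)
    · show TwEngine.nkG hP TF4.o1 * _ * (TwEngine.nkG hP TF4.o1)⁻¹ = bn x
      group
  have hinj : Function.Injective fun x => (⟨bn x, hmem x⟩ : ↥(TwEngine.Xng hP TF4.o1)) := by
    intro x y e
    have e' := congrArg (fun w : ↥(TwEngine.Xng hP TF4.o1) =>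
      blk (((w : ↥(twistedF4 K (2 ^ m))) : GL chevF4.Idx K) : Matrix chevF4.Idx chevF4.Idx K)) e
    simp only [bn, blk_bn θ hsq hθ] at e'
    have hW : (CfsgLib.Lie.Suz.Wm : Matrix (Fin 4) (Fin 4) K) * CfsgLib.Lie.Suz.Wm = 1 := by
      ext i j
      fin_cases i <;> fin_cases j <;> simp [CfsgLib.Lie.Suz.Wm, Matrix.mul_apply, Fin.sum_univ_four]
    have e2 := congrArg (fun M => CfsgLib.Lie.Suz.Wm * M * CfsgLib.Lie.Suz.Wm) e'
    simp only [← mul_assoc, hW, one_mul] at e2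
    simp only [mul_assoc, hW, mul_one] at e2
    have h01 := congrFun (congrFun e2 0) 1
    have h13 := congrFun (congrFun e2 1) 3
    simp [CfsgLib.Lie.Suz.Tm] at h01 h13
    exact Prod.ext h01 (by simpa [h01] using h13)
  have hb : Function.Bijective fun x => (⟨bn x, hmem x⟩ : ↥(TwEngine.Xng hP TF4.o1)) := by
    refine hinj.bijective_of_nat_card_le ?_
    rw [← card_Uinv1 θ hsq hθ, TwEngine.Xng]
    exact (Nat.card_congr (Subgroup.equivMapOfInjective _ _ (MulAut.conj (TwEngine.nkG hP TF4.o1)).injective).toEquiv).ge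
  obtain ⟨x, hx⟩ := hb.2 ⟨g, hg⟩
  exact ⟨x.1, x.2, congrArg Subtype.val (congrArg Subtype.val hx).symm⟩

omit hθ

/-- the representation of the rank-one group -/
noncomputable def repL : ↥(TwEngine.Xg (TF4.orbits θ hsq) (twistedF4 K (2 ^ m)) TF4.o1 ⊔ TwEngine.Xng hP TF4.o1) →*
    GL (Fin 4) K :=
  (rep θ hsq).comp (((twistedF4 K (2 ^ m)).subtype.comp (Subgroup.subtype _)).codRestrict _
    fun g => TwEngine.L_le_LJ hP TF4.o1 g.2)

theorem repL_val (g : ↥(TwEngine.Xg (TF4.orbits θ hsq) (twistedF4 K (2 ^ m)) TF4.o1 ⊔ TwEngine.Xng hP TF4.o1)) :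
    (repL θ hsq hP g : Matrix (Fin 4) (Fin 4) K) =
      blk (((g : ↥(twistedF4 K (2 ^ m))) : GL chevF4.Idx K) : Matrix chevF4.Idx chevF4.Idx K) := rfl

include hθ

/-- its image lies in the Suzuki group -/
theorem repL_mem (hK : Fintype.card K = 2 ^ (2 * m + 1)) :
    ∀ g, repL θ hsq hP g ∈ (Cfsg.Sz K m).map (Matrix.SpecialLinearGroup.toGL : SL(4, K) →* GL (Fin 4) K) := by
  set L := TwEngine.Xg (TF4.orbits θ hsq) (twistedF4 K (2 ^ m)) TF4.o1 ⊔ TwEngine.Xng hP TF4.o1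
  set R := (Cfsg.Sz K m).map (Matrix.SpecialLinearGroup.toGL : SL(4, K) →* GL (Fin 4) K)
  have hle : L ≤ (R.comap (repL θ hsq hP)).map L.subtype := by
    refine sup_le ?_ ?_
    · intro x hx
      refine ⟨⟨x, Subgroup.mem_sup_left hx⟩, ?_, rfl⟩
      obtain ⟨t, u, e⟩ := TF4.X_b2 θ hsq (Subgroup.mem_subgroupOf.1 hx)
      refine ⟨CfsgLib.Lie.Suz.T m (θ t) (θ t * t + u),
        CfsgLib.Lie.Suz.T_mem (CfsgLib.Lie.Suz.isSuzField hK) _ _, Units.ext ?_⟩
      rw [repL_val θ hsq hP, e, blk_be θ hsq hθ]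
      rfl
    · intro x hx
      refine ⟨⟨x, Subgroup.mem_sup_right hx⟩, ?_, rfl⟩
      obtain ⟨t, u, e⟩ := Xng_eq θ hsq hθ hP hx
      refine ⟨CfsgLib.Lie.Suz.W * CfsgLib.Lie.Suz.T m (θ t) (θ t * t + u) * CfsgLib.Lie.Suz.W,
        mul_mem (mul_mem (CfsgLib.Lie.Suz.W_mem (CfsgLib.Lie.Suz.isSuzField hK))
          (CfsgLib.Lie.Suz.T_mem (CfsgLib.Lie.Suz.isSuzField hK) _ _))
          (CfsgLib.Lie.Suz.W_mem (CfsgLib.Lie.Suz.isSuzField hK)), Units.ext ?_⟩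
      rw [repL_val θ hsq hP, e, blk_bn θ hsq hθ]
      rfl
  intro g
  obtain ⟨y, hy, e⟩ := hle g.2
  rw [show y = g from Subtype.ext e] at hy
  exact hy

omit hθ

theorem chr_vals : ∀ i : Fin chevF4.rank, ∀ l : Fin chevF4.nroots,
    (l = TF4.rt 25 ∨ l = TF4.rt 24 ∨ l = TF4.rt 27 ∨ l = TF4.rt 33) →
      cart chevF4 i l = ([[(0 : ℤ), 0, -1, 2], [0, -2, 2, -1], [-1, 2, -1, 0], [2, -1, 0, 0]].getD
        (if l = TF4.rt 24 then 0 else if l = TF4.rt 25 then 1 else if l = TF4.rt 27 then 2 else 3) []).getD i.val 0 := by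
  intro i l hl
  rcases hl with rfl | rfl | rfl | rfl <;> revert i <;> decide +kernel

include hθ

/-- a torus element of the rank-one group acting trivially on the block -/
theorem tor_one {h : ↥(twistedF4 K (2 ^ m))} (hH : h ∈ TwEngine.Hg (TF4.twist θ hsq) (twistedF4 K (2 ^ m)))
    (hb : blk ((h : GL chevF4.Idx K) : Matrix chevF4.Idx chevF4.Idx K) = 1) (hq : ∀ a : Kˣ, a ^ 2 = 1 → a = 1) :
    h = 1 := by
  obtain ⟨a, b, e⟩ := TF4.exists_par θ hsq (Subgroup.mem_subgroupOf.1 hH)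
  -- the four characters
  have hch : ∀ i : Fin 4, ∀ r, σ i = Sum.inr r →
      ∏ k, TF4.par θ a b k ^ cart chevF4 k r = 1 := by
    intro i r hr
    have h1 := TF4.C.G.torθ_conj_xu (K := K) (TF4.par θ a b) r 1
    have hii := congrFun (congrFun hb i) i
    simp only [blk, Matrix.submatrix_apply, Matrix.one_apply_eq, hr] at hii
    rw [e] at hii
    rw [show (TF4.C.G.torθ (TF4.par θ a b) : Matrix chevF4.Idx chevF4.Idx K) (Sum.inr r) (Sum.inr r) =
      ((∏ k, TF4.par θ a b k ^ cart chevF4 k r : Kˣ) : K) by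
        rw [← TF4.C.G.chi_cart, Good.torθ, MonoidHom.comp_apply, Good.coe_tor, Matrix.diagonal_apply_eq]
        rfl] at hii
    exact Units.ext hii
  obtain ⟨v0, v1, v2, v3⟩ := TF4.par_vals θ a b
  have hu : (Finset.univ : Finset (Fin chevF4.rank)) = {TF4.nd 0, TF4.nd 1, TF4.nd 2, TF4.nd 3} := by decide +kernel
  have hd : (TF4.nd 0 : Fin chevF4.rank) ∉ ({TF4.nd 1, TF4.nd 2, TF4.nd 3} : Finset _) ∧
      (TF4.nd 1 : Fin chevF4.rank) ∉ ({TF4.nd 2, TF4.nd 3} : Finset _) ∧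
      (TF4.nd 2 : Fin chevF4.rank) ∉ ({TF4.nd 3} : Finset _) := by decide +kernel
  have hprod : ∀ r : Fin chevF4.nroots, ∏ k, TF4.par θ a b k ^ cart chevF4 k r =
      Units.map θ.toMonoidHom a ^ cart chevF4 (TF4.nd 0) r * (Units.map θ.toMonoidHom b ^ cart chevF4 (TF4.nd 1) r *
        (b ^ cart chevF4 (TF4.nd 2) r * a ^ cart chevF4 (TF4.nd 3) r)) := fun r => by
    rw [hu, Finset.prod_insert hd.1, Finset.prod_insert hd.2.1, Finset.prod_insert hd.2.2, Finset.prod_singleton,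
      v0, v1, v2, v3]
  have hrows : ([TF4.rt 37, TF4.rt 35, TF4.rt 34, TF4.rt 33].map fun r =>
      [TF4.nd 0, TF4.nd 1, TF4.nd 2, TF4.nd 3].map fun i => cart chevF4 i r) =
      [[0, 1, 0, -1], [1, -1, 1, -1], [1, 1, -1, 0], [2, -1, 0, 0]] := by decide +kernel
  simp only [List.map_cons, List.map_nil, List.cons.injEq, and_true] at hrows
  obtain ⟨⟨a0, a1, a2, a3⟩, ⟨b0, b1, b2, b3⟩, ⟨c0, c1, c2, c3⟩, d0, d1, d2, d3⟩ := hrows
  have e37 := (hprod _).symm.trans (hch 0 (TF4.rt 37) rfl)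
  have e33 := (hprod _).symm.trans (hch 3 (TF4.rt 33) rfl)
  rw [a0, a1, a2, a3] at e37
  rw [d0, d1, d2, d3] at e33
  simp only [zpow_zero, zpow_one, zpow_neg, one_mul, mul_one] at e37 e33
  rw [mul_inv_eq_one] at e37 e33
  -- `θ b = a` and `(θ a) ^ 2 = θ b`
  have ea : Units.map θ.toMonoidHom a ^ 2 = a := by rw [← zpow_natCast]; exact_mod_cast e33.trans e37
  have hθa : θ (a : K) ^ 2 = (a : K) := by simpa [Units.ext_iff] using congrArg Units.val ea
  have h1 : θ.symm (a : K) = a := by rw [hsq, hθa]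
  have h2 : θ (a : K) = a := by rw [← h1, RingEquiv.apply_symm_apply, h1]
  have hA : a = 1 := hq a (Units.ext (by
    rw [Units.val_pow_eq_pow_val, Units.val_one]
    have h3 : (a : K) ^ 2 = a := by conv_lhs => rw [← h2]; exact hθa
    have h4 : (a : K) = 1 := mul_left_cancel₀ a.ne_zero (by rw [mul_one, ← pow_two, h3])
    rw [h4, one_pow]))
  have hB : b = 1 := by
    rw [hA] at e37
    exact Units.ext (θ.injective ((congrArg Units.val e37).trans (map_one θ).symm))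
  refine Subtype.ext ?_
  rw [e, hA, hB]
  have : (TF4.par θ (1 : Kˣ) 1) = 1 := funext fun j => by
    simp only [TF4.par, Pi.one_apply]; split_ifs <;> simp
  rw [this, map_one]
  rfl

end CfsgLib.Lie.Mult.TF4Levi
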