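import Cfsg.Agent.Lib.Lie.Mult.TwSL2
import Cfsg.Agent.Lib.Lie.Mult.TF4.Levi
import Cfsg.Agent.Lib.Lie.Mult.Sylow
import Cfsg.Agent.Lib.Lie.Chev.Tw.F4Simple
import Cfsg.Agent.Lib.Lie.Chev.Tw.Sub.RootClosed

/-!
# The multiplier of `²F₄(q)` at odd primes
-/

set_option autoImplicit false
set_option maxRecDepth 100000
set_option maxHeartbeats 1000000
set_option linter.unusedSectionVars false
set_option linter.unusedSimpArgs false

namespace CfsgLib.Lie.Mult.TF4Prime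

open Cfsg.Lie CfsgLib.Lie.Chev TwEngine
open scoped MatrixGroups
open CfsgLib.Lie.SL2Rel

/-- a group generated by two involutions whose product has order dividing `n` -/
theorem card_le_of_two {W : Type*} [Group W] {n : ℕ} (hn0 : 0 < n) (x y : W) (hx : x * x = 1) (hy : y * y = 1)
    (hn : (x * y) ^ n = 1) (hgen : Subgroup.closure ({x, y} : Set W) = ⊤) :
    Nat.card W ≠ 0 ∧ Nat.card W ≤ 2 * n := by
  set a := x * y with ha
  have hred : ∀ i, a ^ i = a ^ (i % n) := fun i => pow_eq_pow_mod i hn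
  let F : Bool × Fin n → W := fun z => (if z.1 then x else 1) * a ^ z.2.val
  have mem : ∀ (b : Bool) (i : ℕ), (if b then x else 1) * a ^ i ∈ Set.range F := fun b i =>
    ⟨(b, ⟨i % n, Nat.mod_lt _ hn0⟩), by simp only [F]; rw [← hred]⟩
  have hyx : y * x = a ^ (n - 1) := by
    rw [pow_sub _ hn0, hn, one_mul, pow_one, ha, mul_inv_rev, inv_eq_of_mul_eq_one_right hx,
      inv_eq_of_mul_eq_one_right hy]
  have step : ∀ g : W, g = x ∨ g = y → ∀ z : Bool × Fin n, g * F z ∈ Set.range F := by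
    rintro g (rfl | rfl) ⟨b, i⟩ <;> cases b
    · simpa [F] using mem true i
    · simpa [F, ← mul_assoc, hx] using mem false i
    · have h := mem true (i.val + 1)
      simp only [if_true, pow_succ'] at h
      simpa [F, ha, ← mul_assoc, hx] using h
    · have h := mem false (n - 1 + i.val)
      simp only [Bool.false_eq_true, if_false, one_mul, pow_add, ← hyx] at h
      simpa [F, mul_assoc] using h
  have hs : Function.Surjective F := by
    intro g
    have hg : g ∈ Subgroup.closure ({x, y} : Set W) := hgen ▸ Subgroup.mem_top g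
    induction hg using Subgroup.closure_induction_left with
    | one => simpa using mem false 0
    | mul_left g hg w _ ih =>
      obtain ⟨z, rfl⟩ := ih
      exact step g (by simpa using hg) z
    | inv_mul_cancel g hg w _ ih =>
      obtain ⟨z, rfl⟩ := ih
      have hi : g⁻¹ = g := by
        rcases hg with rfl | rfl
        · exact inv_eq_of_mul_eq_one_right hx
        · exact inv_eq_of_mul_eq_one_right hy
      rw [hi]
      exact step g (by simpa using hg) z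
  haveI : Finite W := Finite.of_surjective F hs
  refine ⟨Nat.card_pos.ne', (Nat.card_le_card_of_surjective F hs).trans ?_⟩
  rw [Nat.card_prod]
  simp

variable {K : Type*} [Field K] [CharP K 2] (θ : K ≃+* K) (hsq : ∀ x, θ.symm x = θ x ^ 2)

theorem words : orbGraphF4.wl chevF4 TF4.o0 = [TF4.nd 0, TF4.nd 3] ∨
    orbGraphF4.wl chevF4 TF4.o0 = [TF4.nd 3, TF4.nd 0] := by decide +kernel

theorem hno : 2 = orbGraphF4.no := by decide +kernel

/-- the Coxeter matrix on the orbits -/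
noncomputable def M : CoxeterMatrix (Fin orbGraphF4.no) := (CoxeterMatrix.I 6).reindex (finCongr hno)

include hsq

theorem list_val (l : List (Fin orbGraphF4.no)) (r : Fin chevF4.nroots) :
    ((l.map (TF4.orbits θ hsq).wO).prod r).val =
      l.foldr (fun k x => digit (orbGraphF4.tab.get k.val) x) r.val := by
  induction l with
  | nil => rfl
  | cons k l ih => rw [List.map_cons, List.prod_cons, Equiv.Perm.mul_apply, TF4.wO_val, ih]; rfl

omit hsq

/-- the table of a word in the orbit elements -/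
noncomputable def run (l : List (Fin orbGraphF4.no)) (r : ℕ) : ℕ :=
  l.foldr (fun k x => digit (orbGraphF4.tab.get k.val) x) r

theorem braid_tab : ∀ i j : Fin orbGraphF4.no, i = j ∨ ∀ r < chevF4.nroots,
    run (altL j i (M i j - 1) ++ [if Even (M i j) then i else j]) r = run (i :: altL j i (M i j - 1)) r ∧
      (chevF4.IsPosRoot r → ¬ chevF4.IsPosRoot (run [if Even (M i j) then i else j] r) →
        chevF4.IsPosRoot (run (altL j i (M i j - 1)) r) ∧
          ¬ chevF4.IsPosRoot (run (i :: altL j i (M i j - 1)) r)) := by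
  decide +kernel

theorem coxeter_tab : ∀ i j : Fin orbGraphF4.no, ∀ r < chevF4.nroots,
    tabPow (orbGraphF4.tab.get i.val) (orbGraphF4.tab.get j.val) (M i j) r = r := by decide +kernel

include hsq

theorem braid_ok : BraidOK (TF4.orbits θ hsq) M := by
  intro i j hij hm
  refine ⟨Equiv.ext fun r => Fin.ext ?_, fun r hr hn => ?_⟩
  · have h := (((braid_tab i j).resolve_left hij) r.val r.isLt).1
    simp only [run] at h
    rw [← list_val θ hsq, ← list_val θ hsq, List.map_append, List.prod_append] at h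
    simpa using h
  · have h := (((braid_tab i j).resolve_left hij) r.val r.isLt).2 hr
    simp only [run] at h
    rw [← list_val θ hsq, ← list_val θ hsq, ← list_val θ hsq] at h
    simpa [Equiv.Perm.mul_apply] using h (by simpa using hn)

theorem faith (l : List (Fin orbGraphF4.no)) (hl : (l.map (TF4.orbits θ hsq).wO).prod = 1) :
    (l.map M.simple).prod = 1 := by
  have hW : Nat.card ↥(Wp TF4.C.G (TF4.twist θ hsq).p) = 16 := by
    rw [(TF4.orbits θ hsq).card_Wp (TF4.wO_val θ hsq) chkEnum_graphF4]; rfl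
  have hM01 : M TF4.o0 TF4.o1 = 8 := by decide +kernel
  have hd : ∀ i, M i i = 1 := fun i => M.diagonal i
  obtain ⟨hne, hle⟩ := card_le_of_two (W := M.Group) (n := 8) (by norm_num) (M.simple TF4.o0) (M.simple TF4.o1)
    (M.toCoxeterSystem.simple_mul_simple_self _) (M.toCoxeterSystem.simple_mul_simple_self _)
    (by rw [← hM01]; exact M.toCoxeterSystem.simple_mul_simple_pow _ _)
    (by
      refine eq_top_iff.2 (M.toCoxeterSystem.subgroup_closure_range_simple.ge.trans (Subgroup.closure_mono ?_))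
      rintro _ ⟨k, rfl⟩
      rcases TF4.o_cases k with rfl | rfl
      · exact Or.inl rfl
      · exact Or.inr rfl)
  have hrel : ∀ i j, ((TF4.orbits θ hsq).wO i * (TF4.orbits θ hsq).wO j) ^ M i j = 1 := fun i j =>
    (TF4.orbits θ hsq).pow_eq_one_of_tab (fun o => orbGraphF4.tab.get o.val) (TF4.wO_val θ hsq) _ _ _
      (coxeter_tab i j)
  have hge : 16 ≤ Nat.card M.Group := by
    have : Finite M.Group := Nat.finite_of_card_ne_zero hne
    have hlift : M.IsLiftable fun i => (⟨(TF4.orbits θ hsq).wO i, (TF4.orbits θ hsq).wO_mem i⟩ :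
        ↥(Wp TF4.C.G (TF4.twist θ hsq).p)) := fun i j => Subtype.ext (by simpa using hrel i j)
    let f : M.Group →* ↥(Wp TF4.C.G (TF4.twist θ hsq).p) := M.toCoxeterSystem.lift ⟨_, hlift⟩
    rw [← hW]
    refine Nat.card_le_card_of_surjective f ?_
    rintro ⟨π, hπ⟩
    refine (TF4.orbits θ hsq).induction_on (P := fun π => ∀ h : π ∈ Wp TF4.C.G (TF4.twist θ hsq).p,
      ∃ x, f x = ⟨π, h⟩) hπ (fun h => ⟨1, Subtype.ext (by rw [map_one]; rfl)⟩) ?_ hπ
    rintro π' hπ' k - - ih h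
    obtain ⟨x, hx⟩ := ih hπ'
    exact ⟨x * M.simple k, by rw [map_mul, hx, show f (M.simple k) = _ from M.toCoxeterSystem.lift_apply_simple hlift k]; rfl⟩
  exact faith_of (O := TF4.orbits θ hsq) M id Function.surjective_id hrel hne (by rw [hW]; omega) l hl

omit hsq

theorem orth0 : TF4.C.Orth (TF4.rt 24) (TF4.rt 33) := by
  have h : ∀ a ∈ [24, chevF4.neg 24], ∀ b ∈ [33, chevF4.neg 33],
      b ≠ a ∧ b ≠ chevF4.neg a ∧ chevF4.commTerms a b = [] := by decide +kernel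
  intro a ha b hb
  obtain ⟨h1, h2, h3⟩ := h a.val (by
    simp only [List.mem_cons, List.not_mem_nil, or_false] at ha ⊢
    rcases ha with rfl | rfl
    · exact Or.inl rfl
    · exact Or.inr (TF4.C.G.negr_val _)) b.val (by
    simp only [List.mem_cons, List.not_mem_nil, or_false] at hb ⊢
    rcases hb with rfl | rfl
    · exact Or.inl rfl
    · exact Or.inr (TF4.C.G.negr_val _))
  exact ⟨fun e => h1 (congrArg Fin.val e), fun e => h2 ((congrArg Fin.val e).trans (TF4.C.G.negr_val a)), h3⟩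

/-- the group of the two orthogonal roots -/
noncomputable def f0 : SL(2, K) →* GL chevF4.Idx K := TwSub.pairHom TF4.C θ orth0

theorem f0_upper (t : K) : f0 θ (Fam.upper t) = TF4.p2 θ (TF4.rt 33) (TF4.rt 24) t := by
  rw [f0, TwSub.pairHom_upper, TF4.p2]
  exact (TF4.C.orth_commute orth0 (by simp) (by simp) t (θ t)).eq

theorem f0_lower (t : K) : f0 θ (Fam.lower t) = TF4.p2 θ (TF4.rt 14) (TF4.rt 23) t := by
  rw [f0, TwSub.pairHom_lower, TF4.p2, TF4.negr_rt.1, TF4.negr_rt.2.1]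
  exact (TF4.C.orth_commute orth0 (by simp [TF4.negr_rt.2.1]) (by simp [TF4.negr_rt.1]) t (θ t)).eq

theorem f0_wF (c : K) : f0 θ (TwEngine.wF c) =
    TF4.C.G.nE (TF4.rt 24) c * TF4.C.G.nE (TF4.rt 33) (θ c) := by
  simp only [TwEngine.wF, f0, map_mul, TwSub.pairHom_upper, TwSub.pairHom_lower, map_neg, map_inv₀]
  rw [TF4.C.nE_pair orth0]

theorem par_one : (TF4.par θ (1 : Kˣ) 1) = 1 := funext fun j => by
  simp only [TF4.par, Pi.one_apply]; split_ifs <;> simp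

theorem f0_dg (a : Kˣ) : f0 θ (SLUniv.dg a) = TF4.C.G.torθ (TF4.par θ a 1) := by
  rw [dg_eq, map_mul, f0_wF, f0_wF, map_neg, map_one,
    ← show TF4.C.G.nE (TF4.rt 24) (a : K) * TF4.C.G.nE (TF4.rt 33) ((Units.map θ.toMonoidHom a : Kˣ) : K) =
      TF4.C.G.nE (TF4.rt 24) (a : K) * TF4.C.G.nE (TF4.rt 33) (θ (a : K)) from rfl,
    ← TF4.C.hd_pair orth0]
  obtain ⟨s0, -, -, s3⟩ := TF4.simp_rt
  rw [← s0, ← s3, TF4.C.G.hd_eq_torθ, TF4.C.G.hd_eq_torθ, ← map_mul]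
  congr 1
  funext j
  obtain ⟨v0, v1, v2, v3⟩ := TF4.par_vals θ a 1
  have hne : TF4.nd 0 ≠ TF4.nd 3 ∧ TF4.nd 1 ≠ TF4.nd 0 ∧ TF4.nd 1 ≠ TF4.nd 3 ∧ TF4.nd 2 ≠ TF4.nd 0 ∧
      TF4.nd 2 ≠ TF4.nd 3 ∧ TF4.nd 3 ≠ TF4.nd 0 := by decide +kernel
  obtain ⟨n1, n2, n3, n4, n5, n6⟩ := hne
  simp only [Pi.mul_apply, TF4.C.G.coroot_simp]
  rcases TF4.nd_cases j with rfl | rfl | rfl | rfl <;> simp [v0, v1, v2, v3, n1, n2, n3, n4, n5, n6]

theorem tor_mem (c : Fin chevF4.rank → Kˣ) : TF4.C.G.torθ c ∈ chevF4.diagonalSubgroup K :=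
  (TF4.C.G.diagonal_eq_range (K := K)).symm ▸ ⟨c, rfl⟩

include hsq

theorem f0_nperm : f0 θ (TwEngine.wF 1) ∈ chevF4.monomialSubgroup K ∧
    TF4.C.G.NPerm (f0 θ (TwEngine.wF 1)) ((TF4.orbits θ hsq).wO TF4.o0) := by
  obtain ⟨s0, -, -, s3⟩ := TF4.simp_rt
  have hnU : ∀ i, (TF4.C.G.nU i : GL chevF4.Idx K) = TF4.C.G.nE (TF4.C.G.simp' i) 1 := fun i => by
    simp [Good.nU, Good.nE]
  have e : f0 θ (TwEngine.wF 1) = TF4.C.G.nw (orbGraphF4.wl chevF4 TF4.o0) := by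
    rw [f0_wF, map_one]
    rcases words with h | h <;>
      rw [h, Good.nw_cons, Good.nw_cons, Good.nw_nil, mul_one, hnU, hnU, s0, s3]
    exact (TF4.C.nE_commute orth0 1 1).eq
  rw [e]
  exact ⟨TF4.C.G.nw_mem_monomial _, TF4.C.G.nPerm_nw _⟩

theorem f0_diag {x : SL(2, K)} (hx : f0 θ x ∈ chevF4.diagonalSubgroup K) : ∃ a, x = SLUniv.dg a := by
  refine eq_dg_of_diag (C := TF4.C) (f0 θ) (fun t => ?_) (fun t ht => ?_) (fun a => ?_) (f0_nperm θ hsq).1
    (f0_nperm θ hsq).2 ((TF4.orbits θ hsq).wO_ne_one _) hx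
  · rw [f0_upper]
    exact mul_mem (TF4.C.G.xu_mem_U (TF4.pos_rt _ (by simp)) _) (TF4.C.G.xu_mem_U (TF4.pos_rt _ (by simp)) _)
  · rw [f0_upper, ← TF4.p2_prod θ hsq] at ht
    have h0 : ([TF4.rt 24, TF4.rt 33].map fun r => TF4.C.G.xu r (if r = TF4.rt 24 then (0 : K) else θ 0)).prod =
        (1 : GL chevF4.Idx K) := by
      simp [TF4.C.G.xu_zero]
    have := TF4.C.normal_inj ((TF4.L_eq θ hsq TF4.o0).trans (show TF4.L TF4.o0 = [TF4.rt 24, TF4.rt 33] from rfl))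
      _ _ (ht.trans h0.symm) (r := TF4.rt 24) (by simp)
    simpa using this
  · rw [f0_dg]; exact tor_mem _

variable {m : ℕ} (hθ : ∀ x, θ x = x ^ 2 ^ m)
include hθ

theorem f0_mem (x : SL(2, K)) : f0 θ x ∈ twistedF4 K (2 ^ m) := by
  refine Fam.mem_gens (P := fun x => f0 θ x ∈ twistedF4 K (2 ^ m))
    (fun a b ha hb => by rw [map_mul]; exact mul_mem ha hb) (fun t => ?_) ?_ x
  · rw [f0_upper]; exact (TF4.pair_mem θ hθ t).1
  · rw [TwSub.wel_eq]
    simp only [map_mul, f0_upper, f0_lower]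
    exact mul_mem (mul_mem (TF4.pair_mem θ hθ 1).2 (TF4.pair_mem θ hθ (-1)).1) (TF4.pair_mem θ hθ 1).2

variable [Fintype K] (hP : TwGp (TF4.orbits θ hsq) (twistedF4 K (2 ^ m))) (hm : 1 ≤ m)
  (hK : Fintype.card K = 2 ^ (2 * m + 1))
include hP hm hK

/-- the rank-one group of Suzuki type is faithfully represented on the block -/
theorem repL_injective : Function.Injective (TF4Levi.repL θ hsq hP) := by
  refine (injective_iff_map_eq_one _).2 fun g hg => ?_
  have hL := fun (x : ↥(twistedF4 K (2 ^ m))) hx => TwEngine.L_le_LJ hP TF4.o1 (g := x) hx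
  have hgr := fun (x : ↥(twistedF4 K (2 ^ m))) hx => TF4.C.G.gradedJ_LJ (hL x hx)
  have hb : TF4Levi.blk (((g : ↥(twistedF4 K (2 ^ m))) : GL chevF4.Idx K) : Matrix chevF4.Idx chevF4.Idx K) = 1 := by
    rw [← TF4Levi.repL_val θ hsq hP, hg]; rfl
  have hsq1 : ∀ a : Kˣ, a ^ 2 = 1 → a = 1 := fun a ha => by
    refine Units.ext ?_
    have := congrArg Units.val ha
    simp only [Units.val_pow_eq_pow_val, Units.val_one] at this
    rcases sq_eq_one_iff.1 this with h | h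
    · exact h
    · rw [h, CharTwo.neg_eq]; rfl
  refine Subtype.ext ?_
  show (g : ↥(twistedF4 K (2 ^ m))) = 1
  rcases TwEngine.L_decomp hP TF4.o1 _ g.2 with ⟨x, hx, h, hh, e⟩ | ⟨x, hx, h, hh, x', hx', e⟩
  · obtain ⟨hhH, hhL⟩ := Subgroup.mem_inf.1 hh
    obtain ⟨t, u, ex⟩ := TF4.X_b2 θ hsq (Subgroup.mem_subgroupOf.1 (inv_mem hx))
    have hh' : h = x⁻¹ * (g : ↥(twistedF4 K (2 ^ m))) := by rw [e, inv_mul_cancel_left]
    have eb : TF4Levi.blk ((h : GL chevF4.Idx K) : Matrix chevF4.Idx chevF4.Idx K) =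
        CfsgLib.Lie.Suz.Tm m (θ t) (θ t * t + u) := by
      rw [hh', Subgroup.coe_mul, Units.val_mul, TF4Levi.blk_mul θ hsq
        (hgr _ (inv_mem (Subgroup.mem_sup_left hx))), hb, mul_one, ex, TF4Levi.blk_be θ hsq hθ]
    obtain ⟨hhF, hhD⟩ := Subgroup.mem_inf.1 (Subgroup.mem_subgroupOf.1 hhH)
    obtain ⟨c, hc⟩ := TF4.C.G.exists_tor hhD
    have hoff : ∀ i j : Fin 4, i ≠ j →
        TF4Levi.blk ((h : GL chevF4.Idx K) : Matrix chevF4.Idx chevF4.Idx K) i j = 0 := fun i j hij => by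
      rw [TF4Levi.blk, Matrix.submatrix_apply, hc, Good.coe_tor]
      exact Matrix.diagonal_apply_ne _ fun e => hij (TF4Levi.σ_inj i j e)
    have h01 := hoff 0 1 (by decide)
    have h13 := hoff 1 3 (by decide)
    rw [eb] at h01 h13
    simp [CfsgLib.Lie.Suz.Tm] at h01 h13
    obtain rfl := h01
    obtain rfl : u = 0 := by simpa using h13
    have hx1 : x = 1 := inv_eq_one.1 (Subtype.ext (by
      rw [ex]
      simp [TF4.b2, TF4.C.G.xu_zero]))
    have hb1 : TF4Levi.blk ((h : GL chevF4.Idx K) : Matrix chevF4.Idx chevF4.Idx K) = 1 := by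
      rw [hh', hx1, inv_one, one_mul, hb]
    rw [e, hx1, one_mul, TF4Levi.tor_one θ hsq hθ hP hhH hb1 hsq1]
  · exfalso
    obtain ⟨hhH, hhL⟩ := Subgroup.mem_inf.1 hh
    set nn : ↥(twistedF4 K (2 ^ m)) := h * TwEngine.nE hP TF4.o1 with hnn
    have hnnL : nn ∈ TwEngine.Xg (TF4.orbits θ hsq) (twistedF4 K (2 ^ m)) TF4.o1 ⊔ TwEngine.Xng hP TF4.o1 :=
      mul_mem hhL (TwEngine.nE_mem hP TF4.o1)
    obtain ⟨t, u, ex⟩ := TF4.X_b2 θ hsq (Subgroup.mem_subgroupOf.1 (inv_mem hx))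
    obtain ⟨t', u', ex'⟩ := TF4.X_b2 θ hsq (Subgroup.mem_subgroupOf.1 (inv_mem hx'))
    have hn' : nn = x⁻¹ * (g : ↥(twistedF4 K (2 ^ m))) * x'⁻¹ := by rw [e, hnn]; group
    have eb : TF4Levi.blk ((nn : GL chevF4.Idx K) : Matrix chevF4.Idx chevF4.Idx K) =
        CfsgLib.Lie.Suz.Tm m (θ t) (θ t * t + u) * CfsgLib.Lie.Suz.Tm m (θ t') (θ t' * t' + u') := by
      rw [hn', Subgroup.coe_mul, Units.val_mul, TF4Levi.blk_mul θ hsq
          (hgr _ (mul_mem (inv_mem (Subgroup.mem_sup_left hx)) g.2)),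
        Subgroup.coe_mul, Units.val_mul, TF4Levi.blk_mul θ hsq (hgr _ (inv_mem (Subgroup.mem_sup_left hx))), hb,
        mul_one, ex, ex', TF4Levi.blk_be θ hsq hθ, TF4Levi.blk_be θ hsq hθ]
    have hperm : TF4.C.G.NPerm (nn : GL chevF4.Idx K) ((TF4.orbits θ hsq).wO TF4.o1) := by
      have := Good.NPerm.mul TF4.C.G (TF4.C.G.nPerm_H (Subgroup.mem_inf.1 (Subgroup.mem_subgroupOf.1 hhH)).2)
        (TwEngine.nE_perm hP TF4.o1)
      rwa [one_mul] at this
    obtain ⟨a, ha⟩ := hperm (TF4.rt 27)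
    have him : (TF4.orbits θ hsq).wO TF4.o1 (TF4.rt 27) = TF4.rt 20 := by
      refine Fin.ext ?_
      rw [TF4.wO_val θ hsq]
      decide +kernel
    have e1 := ha (1 : K)
    rw [him, mul_inv_eq_iff_eq_mul] at e1
    have h20 : (20 : ℕ) ∈ [27, 25, 28, 30, 20, 22, 19, 17] := by simp
    have h27 : (27 : ℕ) ∈ [27, 25, 28, 30, 20, 22, 19, 17] := by simp
    have e2 := congrArg (fun g : GL chevF4.Idx K => TF4Levi.blk (g : Matrix chevF4.Idx chevF4.Idx K) 1 0) e1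
    simp only [Units.val_mul] at e2
    unfold TF4.rt at e2
    rw [TF4Levi.blk_mul θ hsq (hgr _ hnnL),
      TF4Levi.blk_mul θ hsq (TF4.C.G.gradedJ_LJ (TF4Levi.xu_LJ θ hsq h20 _ _))] at e2
    rw [TF4Levi.blk_xu h27, TF4Levi.blk_xu h20, eb] at e2
    simp [Matrix.mul_apply, Fin.sum_univ_four, TF4Levi.unitPos, Matrix.one_apply, CfsgLib.Lie.Suz.Tm] at e2
    exact a.ne_zero e2.symm

/-- odd `ℓ`-subgroups of the rank-one group of Suzuki type are cyclic -/
theorem isCyclic_odd {ℓ : ℕ} [Fact ℓ.Prime] (h2 : ℓ ≠ 2)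
    {Q : Subgroup ↥(TwEngine.Xg (TF4.orbits θ hsq) (twistedF4 K (2 ^ m)) TF4.o1 ⊔ TwEngine.Xng hP TF4.o1)}
    (hQ : IsPGroup ℓ Q) : IsCyclic Q := by
  set R := (Cfsg.Sz K m).map (Matrix.SpecialLinearGroup.toGL : SL(4, K) →* GL (Fin 4) K) with hR
  have hinjT : Function.Injective (Matrix.SpecialLinearGroup.toGL : SL(4, K) →* GL (Fin 4) K) :=
    Matrix.SpecialLinearGroup.toGL_injective
  let ψ := ((Subgroup.equivMapOfInjective (Cfsg.Sz K m) _ hinjT).symm.toMonoidHom).comp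
    ((TF4Levi.repL θ hsq hP).codRestrict R (TF4Levi.repL_mem θ hsq hθ hP hK))
  have hψ : Function.Injective ψ := by
    intro a b e
    have e1 := (Subgroup.equivMapOfInjective (Cfsg.Sz K m) _ hinjT).symm.injective e
    exact repL_injective θ hsq hθ hP hm hK (congrArg Subtype.val e1)
  have : IsCyclic ↥(Q.map ψ) := CfsgLib.Lie.Suz.isCyclic_odd_pgroup hm hK h2 (hQ.map ψ)
  exact isCyclic_of_injective (Q.equivMapOfInjective ψ hψ).toMonoidHom (Q.equivMapOfInjective ψ hψ).injective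

/-- no kernel in the lift of the rank-one group of Suzuki type -/
theorem lhat_inf_ker {Δ : Type*} [Group Δ] [Finite Δ] {τ : Δ →* ↥(twistedF4 K (2 ^ m))}
    (E : Setup τ 2) : lhat τ 2 (TwEngine.Xg (TF4.orbits θ hsq) (twistedF4 K (2 ^ m)) TF4.o1 ⊔
      TwEngine.Xng hP TF4.o1) ⊓ τ.ker = ⊥ := by
  classical
  haveI : Fact (Nat.Prime 2) := ⟨Nat.prime_two⟩
  set L := TwEngine.Xg (TF4.orbits θ hsq) (twistedF4 K (2 ^ m)) TF4.o1 ⊔ TwEngine.Xng hP TF4.o1 with hLdef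
  set Lh := lhat τ 2 L with hLh
  let σ : ↥Lh →* ↥L := (τ.comp Lh.subtype).codRestrict L fun x => lhat_map_le τ 2 L x.2
  have hker : ∀ x : ↥Lh, x ∈ σ.ker ↔ τ (x : Δ) = 1 := fun x =>
    ⟨fun h => congrArg Subtype.val h, fun h => Subtype.ext h⟩
  have hX : IsPGroup 2 ↥(TwEngine.Xg (TF4.orbits θ hsq) (twistedF4 K (2 ^ m)) TF4.o1) := by
    refine IsPGroup.of_card (n := 2 * (2 * m + 1)) ?_
    rw [TF4Levi.card_Uinv1 θ hsq hθ, Nat.card_prod, Nat.card_eq_fintype_card, hK]; ring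
  have hsurj : Function.Surjective σ := by
    intro y
    have hle : L ≤ Lh.map τ := by
      refine sup_le ?_ ?_ <;> intro z hz
      · obtain ⟨a, ha, ea⟩ := E.exists_lift hX hz
        exact ⟨a, Subgroup.subset_closure ⟨by rw [ea]; exact Subgroup.mem_sup_left hz, ha⟩, ea⟩
      · obtain ⟨a, ha, ea⟩ := E.exists_lift (hX.map (MulAut.conj (TwEngine.nkG hP TF4.o1)).toMonoidHom) hz
        exact ⟨a, Subgroup.subset_closure ⟨by rw [ea]; exact Subgroup.mem_sup_right hz, ha⟩, ea⟩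
    obtain ⟨a, ha, ea⟩ := hle y.2
    exact ⟨⟨a, ha⟩, Subtype.ext ea⟩
  have hcen : σ.ker ≤ Subgroup.center ↥Lh := fun x hx => Subgroup.mem_center_iff.2 fun y =>
    Subtype.ext (Subgroup.mem_center_iff.1 (E.central (MonoidHom.mem_ker.2 ((hker x).1 hx))) _)
  have hab : ∀ x : Abelianization ↥Lh, ∃ k, x ^ 2 ^ k = 1 := by
    intro x
    obtain ⟨⟨g, hg⟩, rfl⟩ : ∃ g, Abelianization.of g = x := QuotientGroup.mk_surjective x
    have key : ∀ g, ∀ hg : g ∈ Lh, ∃ k, (Abelianization.of (⟨g, hg⟩ : ↥Lh)) ^ 2 ^ k = 1 := by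
      intro g hg
      induction hg using Subgroup.closure_induction with
      | mem y hy =>
        obtain ⟨k, hk⟩ := hy.2
        refine ⟨k, ?_⟩
        rw [← map_pow, show (⟨y, Subgroup.subset_closure hy⟩ : ↥Lh) ^ 2 ^ k = 1 from Subtype.ext hk, map_one]
      | one => exact ⟨0, by rw [pow_zero, pow_one]; exact map_one _⟩
      | mul a b ha hb iha ihb =>
        obtain ⟨i, hi⟩ := iha
        obtain ⟨j, hj⟩ := ihb
        refine ⟨i + j, ?_⟩
        rw [show (⟨a * b, _⟩ : ↥Lh) = ⟨a, ha⟩ * ⟨b, hb⟩ from rfl, map_mul, mul_pow]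
        rw [pow_add, pow_mul, hi, one_pow, one_mul, mul_comm (2 ^ i), pow_mul, hj, one_pow]
      | inv a ha iha =>
        obtain ⟨i, hi⟩ := iha
        refine ⟨i, ?_⟩
        rw [show (⟨a⁻¹, _⟩ : ↥Lh) = (⟨a, ha⟩ : ↥Lh)⁻¹ from rfl, map_inv, inv_pow, hi, inv_one]
    exact key g hg
  have hodd : ∀ x : ↥Lh, x ∈ σ.ker → ∀ k, Odd k → x ^ k = 1 → x ∈ commutator ↥Lh := by
    intro x _ k hk hxk
    rw [← Abelianization.ker_of, MonoidHom.mem_ker]
    obtain ⟨i, hi⟩ := hab (Abelianization.of x)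
    have h1 : Abelianization.of x ^ k = 1 := by rw [← map_pow, hxk, map_one]
    have := (pow_gcd_eq_one (a := Abelianization.of x) (m := 2 ^ i) (n := k)).2 ⟨hi, h1⟩
    rwa [Nat.Coprime.gcd_eq_one (Nat.Coprime.pow_left i ((Nat.prime_two.coprime_iff_not_dvd).2
      (Nat.not_even_iff_odd.2 hk ∘ even_iff_two_dvd.2))), pow_one] at this
  have hkodd : Odd (Nat.card τ.ker) := Nat.not_even_iff_odd.1 fun h => E.cop (even_iff_two_dvd.1 h)
  have hpow : ∀ x : ↥Lh, x ∈ σ.ker → x ^ Nat.card τ.ker = 1 := fun x hx => Subtype.ext (by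
    show (x : Δ) ^ Nat.card τ.ker = 1
    have h := pow_card_eq_one' (G := τ.ker) (x := ⟨(x : Δ), (hker x).1 hx⟩)
    exact congrArg Subtype.val h)
  have hst : Cfsg.IsStemExtension σ := ⟨hsurj, hcen, fun x hx => hodd x hx _ hkodd (hpow x hx)⟩
  have hbot : σ.ker = ⊥ := by
    refine ker_eq_bot_of_forall fun ℓ hℓ hd => ?_
    haveI := Fact.mk hℓ
    have h2 : ℓ ≠ 2 := by
      rintro rfl
      obtain ⟨⟨x, hx⟩, hord⟩ := exists_prime_orderOf_dvd_card' 2 hd
      have h1 : orderOf x = 2 := (Subgroup.orderOf_mk x hx).symm.trans hord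
      have h3 := orderOf_dvd_of_pow_eq_one (hpow x hx)
      rw [h1] at h3
      exact E.cop h3
    obtain ⟨S⟩ : Nonempty (Sylow ℓ ↥L) := inferInstance
    haveI := isCyclic_odd θ hsq hθ hP hm hK h2 S.isPGroup'
    exact not_dvd_ker_of_cyclic hst (S : Subgroup ↥L) S.not_dvd_index hd
  rw [eq_bot_iff]
  rintro z ⟨hz, hz'⟩
  have : (⟨z, hz⟩ : ↥Lh) ∈ σ.ker := (hker _).2 hz'
  rw [hbot, Subgroup.mem_bot] at this
  rw [Subgroup.mem_bot]
  exact congrArg Subtype.val this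

/-- the torus element of the rank-one group of Suzuki type has trivial first coordinate -/
theorem par_fst {h : ↥(twistedF4 K (2 ^ m))}
    (hL : h ∈ TwEngine.Xg (TF4.orbits θ hsq) (twistedF4 K (2 ^ m)) TF4.o1 ⊔ TwEngine.Xng hP TF4.o1)
    {a b : Kˣ} (e : (h : GL chevF4.Idx K) = TF4.C.G.torθ (TF4.par θ a b)) : a = 1 := by
  classical
  obtain ⟨s, -, hs⟩ := TF4Levi.repL_mem θ hsq hθ hP hK ⟨h, hL⟩
  have hdet : (TF4Levi.blk ((h : GL chevF4.Idx K) : Matrix chevF4.Idx chevF4.Idx K)).det = 1 := by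
    rw [← TF4Levi.repL_val θ hsq hP ⟨h, hL⟩, ← hs]
    exact s.2
  have hent : ∀ i j, TF4Levi.blk ((h : GL chevF4.Idx K) : Matrix chevF4.Idx chevF4.Idx K) i j =
      if i = j then ((∏ k, TF4.par θ a b k ^ cart chevF4 k
        (![TF4.rt 37, TF4.rt 35, TF4.rt 34, TF4.rt 33] i) : Kˣ) : K) else 0 := fun i j => by
    rw [TF4Levi.blk, Matrix.submatrix_apply, e, Good.torθ, MonoidHom.comp_apply, Good.coe_tor]
    by_cases hij : i = j
    · subst hij
      rw [Matrix.diagonal_apply_eq, if_pos rfl, ← TF4.C.G.chi_cart]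
      rfl
    · rw [Matrix.diagonal_apply_ne _ fun e => hij (TF4Levi.σ_inj i j e), if_neg hij]
  rw [show TF4Levi.blk ((h : GL chevF4.Idx K) : Matrix chevF4.Idx chevF4.Idx K) = Matrix.diagonal fun i =>
      ((∏ k, TF4.par θ a b k ^ cart chevF4 k (![TF4.rt 37, TF4.rt 35, TF4.rt 34, TF4.rt 33] i) : Kˣ) : K) from
    Matrix.ext fun i j => by rw [hent, Matrix.diagonal_apply], Matrix.det_diagonal, ← Units.coe_prod] at hdet
  obtain ⟨v0, v1, v2, v3⟩ := TF4.par_vals θ a b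
  have hu : (Finset.univ : Finset (Fin chevF4.rank)) = {TF4.nd 0, TF4.nd 1, TF4.nd 2, TF4.nd 3} := by decide +kernel
  have hd : (TF4.nd 0 : Fin chevF4.rank) ∉ ({TF4.nd 1, TF4.nd 2, TF4.nd 3} : Finset _) ∧
      (TF4.nd 1 : Fin chevF4.rank) ∉ ({TF4.nd 2, TF4.nd 3} : Finset _) ∧
      (TF4.nd 2 : Fin chevF4.rank) ∉ ({TF4.nd 3} : Finset _) := by decide +kernel
  have hsum : [TF4.nd 0, TF4.nd 1, TF4.nd 2, TF4.nd 3].map (fun k => ∑ i : Fin 4, cart chevF4 k
      (![TF4.rt 37, TF4.rt 35, TF4.rt 34, TF4.rt 33] i)) = [4, 0, 0, -2] := by decide +kernel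
  simp only [List.map_cons, List.map_nil, List.cons.injEq, and_true] at hsum
  obtain ⟨w0, w1, w2, w3⟩ := hsum
  rw [Finset.prod_comm] at hdet
  have hz : ∀ (x : Kˣ) (f : Fin 4 → ℤ), ∏ i, x ^ f i = x ^ ∑ i, f i := fun x f =>
    (map_sum (zpowersHom Kˣ x).toAdditiveRight f Finset.univ).symm
  simp only [hz] at hdet
  rw [hu, Finset.prod_insert hd.1, Finset.prod_insert hd.2.1, Finset.prod_insert hd.2.2, Finset.prod_singleton,
    v0, v1, v2, v3, w0, w1, w2, w3, zpow_zero, zpow_zero, one_mul, one_mul] at hdet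
  have h4 : θ (a : K) ^ 4 = (a : K) ^ 2 := by
    have h5 : (Units.map θ.toMonoidHom a) ^ (4 : ℤ) * a ^ (-2 : ℤ) = 1 := Units.ext hdet
    rw [zpow_neg, mul_inv_eq_one] at h5
    have h6 := congrArg Units.val h5
    simpa [Units.val_zpow_eq_zpow_val, zpow_ofNat] using h6
  have hθa : θ (a : K) ^ 2 = (a : K) := by
    rcases sq_eq_sq_iff_eq_or_eq_neg.1 (show (θ (a : K) ^ 2) ^ 2 = (a : K) ^ 2 by rw [← pow_mul]; exact h4) with h | h
    · exact h
    · rw [h, CharTwo.neg_eq]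
  have h1 : θ.symm (a : K) = a := by rw [hsq, hθa]
  have h2 : θ (a : K) = a := by
    have := congrArg θ h1
    rwa [RingEquiv.apply_symm_apply, eq_comm] at this
  rw [h2] at hθa
  exact Units.ext (mul_left_cancel₀ a.ne_zero (by rw [Units.val_one, mul_one, ← pow_two, hθa]))

/-- no multiplier away from two -/
theorem not_dvd_of_ne {Δ : Type*} [Group Δ] [Finite Δ] {τ : Δ →* ↥(twistedF4 K (2 ^ m))}
    (hτ : Cfsg.IsStemExtension τ) (h2 : ¬ 2 ∣ Nat.card τ.ker) : τ.ker = ⊥ := by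
  classical
  have : IsSimpleGroup ↥(twistedF4 K (2 ^ m)) := (TF4.summary2 hm hK).2.1
  have : Nonempty (Fin orbGraphF4.no) := ⟨TF4.o0⟩
  haveI : Fact (Nat.Prime 2) := ⟨Nat.prime_two⟩
  have hU : IsPGroup 2 ↥(Ug (TF4.twist θ hsq) (twistedF4 K (2 ^ m))) := by
    refine IsPGroup.of_card (n := (2 * m + 1) * 12) ?_
    obtain ⟨-, hcard, -⟩ := TF4.summary hK
    have hle : (TF4.twist θ hsq).Fix ⊓ chevF4.posUnipotent K ≤ twistedF4 K (2 ^ m) := hP.toPre.U_le
    rw [Ug, Nat.card_congr (Subgroup.subgroupOfEquivOfLe hle).toEquiv, pow_mul, ← hcard, hP.U_eq]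
  let D := eData hP 2 hU M (braid_ok θ hsq) (faith θ hsq)
  have E : Setup τ 2 := ⟨Nat.prime_two, hτ.1, hτ.2.1, h2⟩
  let g0 : SL(2, K) →* ↥(twistedF4 K (2 ^ m)) := (f0 θ).codRestrict _ (f0_mem θ hsq hθ)
  have hinj : ∀ {a b a' b' : Kˣ}, TF4.C.G.torθ (TF4.par θ a b) = TF4.C.G.torθ (TF4.par θ a' b') →
      a = a' ∧ b = b' := by
    intro a b a' b' e
    have h1 : (TF4.par θ a b)⁻¹ * TF4.par θ a' b' = 1 :=
      TF4.ker_one (by rw [map_mul, map_inv, e, inv_mul_cancel])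
    rw [inv_mul_eq_one] at h1
    obtain ⟨-, -, v2, v3⟩ := TF4.par_vals θ a b
    obtain ⟨-, -, w2, w3⟩ := TF4.par_vals θ a' b'
    exact ⟨v3.symm.trans ((congrFun h1 _).trans w3), v2.symm.trans ((congrFun h1 _).trans w2)⟩
  have i0 : Function.Injective g0 := by
    have h := injective_of_diag (f0 θ) (fun x hx => f0_diag θ hsq hx) fun a ha => by
      rw [f0_dg, ← map_one (TF4.C.G.torθ (K := K)), ← par_one θ] at ha
      exact (hinj ha).1
    exact fun x y e => h (congrArg Subtype.val e)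
  have hL0 : Xg (TF4.orbits θ hsq) (twistedF4 K (2 ^ m)) TF4.o0 ⊔ Xng hP TF4.o0 ≤ g0.range := by
    refine L_le hP TF4.o0 ?_ (n0 := g0 (TwEngine.wF 1)) ⟨_, rfl⟩ (f0_nperm θ hsq).1 (f0_nperm θ hsq).2
    intro x hx
    obtain ⟨t, e⟩ := TF4.X_pair θ hsq (Subgroup.mem_subgroupOf.1 hx)
    exact ⟨Fam.upper t, Subtype.ext ((f0_upper θ t).trans e.symm)⟩
  have mono : ∀ {L L' : Subgroup ↥(twistedF4 K (2 ^ m))}, L ≤ L' → lhat τ 2 L ≤ lhat τ 2 L' :=
    fun h => Subgroup.closure_mono fun g hg => ⟨h hg.1, hg.2⟩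
  have hsplit : ∀ k, D.Lh τ k ⊓ τ.ker = ⊥ := fun k => by
    rcases TF4.o_cases k with rfl | rfl
    · refine le_bot_iff.1 (le_trans (inf_le_inf_right _ (mono hL0)) ?_)
      rw [lhat_inf_ker_of_sl2 E g0 i0]
    · exact lhat_inf_ker θ hsq hθ hP hm hK E
  refine D.ker_eq_bot E hsplit hτ ?_
  have hne : (TF4.o0 : Fin orbGraphF4.no) ≠ TF4.o1 := by decide +kernel
  refine (iSupIndep_pair hne TF4.o_cases).2 ?_
  rw [disjoint_iff, eq_bot_iff]
  rintro g ⟨⟨hgH, hg0⟩, ⟨-, hg1⟩⟩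
  obtain ⟨x, rfl⟩ := hL0 hg0
  have hH : f0 θ x ∈ chevF4.diagonalSubgroup K := (Subgroup.mem_inf.1 (Subgroup.mem_subgroupOf.1 hgH)).2
  obtain ⟨a, rfl⟩ := f0_diag θ hsq hH
  have ha : a = 1 := par_fst θ hsq hθ hP hm hK hg1 (f0_dg θ a)
  rw [Subgroup.mem_bot]
  refine Subtype.ext ?_
  show f0 θ (SLUniv.dg a) = 1
  rw [f0_dg, ha, par_one θ, map_one]

end CfsgLib.Lie.Mult.TF4Prime
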