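import Cfsg.Agent.Lib.Lie.Mult.TF4.Rel
import Cfsg.Agent.Lib.Lie.Chev.Cent

/-!
# The torus of `²F₄` on the parameter subgroups

A torus element is given by four integers; its weight on a parameter is a pair `(x, y)`, standing for the
character `u ↦ u ^ x * θ u ^ y`.
-/

set_option autoImplicit false
set_option maxRecDepth 100000
set_option maxHeartbeats 400000
set_option linter.unusedSectionVars false

namespace CfsgLib.Lie.Mult.TF4Rel

open Cfsg.Lie CfsgLib.Lie.CharTwo CfsgLib.Lie.Chev TF4Invol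
open scoped MatrixGroups

/-- an element of the torus is fixed by four exponents -/
abbrev Vec := (ℤ × ℤ) × (ℤ × ℤ)

/-- the exponents at the nodes -/
def zexp (v : Vec) (i : Fin chevF4.rank) : ℤ × ℤ :=
  [(v.1.2, v.1.1), (v.2.2, v.2.1), (v.2.1, 2 * v.2.2), (v.1.1, 2 * v.1.2)].getD i.val (0, 0)

/-- the weight on a root -/
noncomputable def chr (v : Vec) (r : ℕ) : ℤ × ℤ :=
  if h : r < chevF4.nroots then ∑ i, cart chevF4 i ⟨r, h⟩ • zexp v i else 0

/-- the weight on a parameter -/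
noncomputable def kap (v : Vec) (j : ℕ) : ℤ × ℤ := chr v ([24, 26, 36, 43, 41, 44, 45, 31, 40, 32, 25, 28].getD j 0)

/-- an element fixing a parameter -/
def fixv (j : ℕ) : Vec :=
  [((-1, 0), (-2, 0)), ((-1, 0), (-1, -1)), ((-1, 0), (-1, -1)), ((-1, 1), (0, 1)), ((0, 0), (-1, 0)),
    ((0, 0), (-1, 0)), ((-1, 0), (0, 0)), ((-1, 0), (-1, 0)), ((-1, 0), (-1, 0)), ((-1, 0), (0, -1)),
    ((0, -1), (-1, -1)), ((0, -1), (-1, -1))].getD j ((0, 0), (0, 0))

/-- an element with all scalars on a parameter -/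
def scav (j : ℕ) : Vec := if j = 6 then ((0, 0), (-1, 0)) else ((-1, 0), (0, 0))

/-- the elements in use -/
def vecs : List Vec := (List.range 12).map fixv ++ (List.range 12).map scav

/-- the other parameter of the ray -/
def partner (j : ℕ) : ℕ := [0, 2, 1, 3, 5, 4, 6, 8, 7, 9, 11, 10].getD j 0

/-- a weight with trivial kernel -/
def good (p : ℤ × ℤ) : Bool := (List.range 20).any fun e => (2 * p.1 ^ 2 - p.2 ^ 2).natAbs == 2 ^ e

/-- the weights on the letters of a parameter, doubled -/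
noncomputable def scaleOK (v : Vec) (j : ℕ) : Bool :=
  (strip (one1 j (Sym.v 0) (Sym.v 1))).all fun x => x.2.all fun m =>
    m.all (fun i => Nat.blt i 2) &&
      decide ((m.count 0 : ℤ) • ((2 : ℤ) • kap v j) + (m.count 1 : ℤ) • ((kap v j).2, 2 * (kap v j).1) =
        (2 : ℤ) • chr v x.1)

theorem scale_ok : ∀ v ∈ vecs, ∀ j < 12, scaleOK v j = true := by decide +kernel

theorem fix_ok : ∀ j < 12, kap (fixv j) j = (0, 0) ∧ good (kap (scav j) j) = true ∧
    ∀ k < 12, k = j ∨ k = partner j ∨ good (kap (fixv j) k) = true := by decide +kernel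

theorem vecs_mem : ∀ j < 12, fixv j ∈ vecs ∧ scav j ∈ vecs := by decide +kernel

variable {K : Type*} [Field K] (θ : K ≃+* K)

/-- a monomial in `u` and `θ u` -/
noncomputable def mon (p : ℤ × ℤ) (u : Kˣ) : Kˣ := u ^ p.1 * Units.map θ.toMonoidHom u ^ p.2

theorem mon_add (p q : ℤ × ℤ) (u : Kˣ) : mon θ (p + q) u = mon θ p u * mon θ q u := by
  simp only [mon, Prod.fst_add, Prod.snd_add, zpow_add]
  exact mul_mul_mul_comm _ _ _ _

theorem mon_zero (u : Kˣ) : mon θ 0 u = 1 := by simp [mon]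

theorem mon_smul (n : ℤ) (p : ℤ × ℤ) (u : Kˣ) : mon θ (n • p) u = mon θ p u ^ n := by
  simp only [mon, Prod.smul_fst, Prod.smul_snd, smul_eq_mul, mul_zpow, ← zpow_mul]
  rw [mul_comm n, mul_comm n]

theorem mon_sum {ι : Type*} (s : Finset ι) (f : ι → ℤ × ℤ) (u : Kˣ) :
    mon θ (∑ i ∈ s, f i) u = ∏ i ∈ s, mon θ (f i) u := by
  classical
  induction s using Finset.induction with
  | empty => simp [mon_zero]
  | insert a s ha ih => rw [Finset.sum_insert ha, Finset.prod_insert ha, mon_add, ih]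

theorem mon_mul (p : ℤ × ℤ) (u w : Kˣ) : mon θ p (u * w) = mon θ p u * mon θ p w := by
  simp only [mon, map_mul, mul_zpow]
  exact mul_mul_mul_comm _ _ _ _

variable [CharP K 2] (hsq : ∀ x, θ.symm x = θ x ^ 2)
include hsq

theorem map_map_sq (u : Kˣ) : Units.map θ.toMonoidHom (Units.map θ.toMonoidHom u) ^ (2 : ℤ) = u := by
  rw [zpow_two]
  ext
  simpa [sq] using tt_sq θ hsq (u : K)

theorem map_mon (x y : ℤ) (u : Kˣ) : Units.map θ.toMonoidHom (mon θ (x, 2 * y) u) = mon θ (y, x) u := by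
  simp only [mon, map_mul, map_zpow]
  rw [zpow_mul, map_map_sq θ hsq, mul_comm]

theorem eq_one_of_good {p : ℤ × ℤ} (hp : good p = true) {u : Kˣ} (h : mon θ p u = 1) : u = 1 := by
  obtain ⟨x, y⟩ := p
  have h1 : u ^ (2 * x) * Units.map θ.toMonoidHom u ^ (2 * y) = 1 := by
    have := congrArg (· ^ (2 : ℤ)) h
    simp only [mon, mul_zpow, ← zpow_mul, one_zpow] at this
    rwa [mul_comm x, mul_comm y] at this
  have h2 : Units.map θ.toMonoidHom u ^ (2 * x) * u ^ y = 1 := by
    have := congrArg (fun z => Units.map θ.toMonoidHom z) h1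
    simp only [map_mul, map_zpow, map_one] at this
    rwa [zpow_mul _ 2 y, map_map_sq θ hsq] at this
  have h3 : u ^ (2 * x ^ 2 - y ^ 2) = 1 := by
    have a1 : u ^ (2 * x ^ 2) * Units.map θ.toMonoidHom u ^ (2 * x * y) = 1 := by
      have := congrArg (· ^ x) h1
      simp only [mul_zpow, ← zpow_mul, one_zpow] at this
      rwa [show 2 * x * x = 2 * x ^ 2 by ring, show 2 * y * x = 2 * x * y by ring] at this
    have a2 : Units.map θ.toMonoidHom u ^ (2 * x * y) * u ^ (y ^ 2) = 1 := by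
      have := congrArg (· ^ y) h2
      simp only [mul_zpow, ← zpow_mul, one_zpow] at this
      rwa [show y * y = y ^ 2 by ring] at this
    rw [zpow_sub, mul_inv_eq_one]
    exact mul_right_cancel (a1.trans ((mul_comm _ _).trans a2).symm)
  simp only [good, List.any_eq_true, beq_iff_eq] at hp
  obtain ⟨e, -, he⟩ := hp
  have h4 : u ^ ((2 : ℕ) ^ e) = 1 := by
    rw [← he]
    exact pow_natAbs_eq_one.2 h3
  have h5 : (((u : K) : K) - 1) ^ (2 ^ e) = 0 := by
    rw [sub_pow_char_pow, one_pow, ← Units.val_pow_eq_pow_val, h4, Units.val_one, sub_self]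
  exact Units.ext (sub_eq_zero.1 (eq_zero_of_pow_eq_zero h5))

theorem exists_mon [Finite K] {p : ℤ × ℤ} (hp : good p = true) (c : Kˣ) : ∃ u, mon θ p u = c := by
  haveI : Finite Kˣ := Finite.of_injective _ Units.val_injective
  refine (Finite.injective_iff_surjective.1 fun u w h => ?_) c
  refine mul_inv_eq_one.1 (eq_one_of_good θ hsq hp ?_)
  rw [mon_mul, h, ← mon_mul, mul_inv_cancel]
  simp [mon]

theorem torθ_par (v : Vec) (u : Kˣ) :
    (fun i => mon θ (zexp v i) u) = TF4.par θ (mon θ (v.1.1, 2 * v.1.2) u) (mon θ (v.2.1, 2 * v.2.2) u) := by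
  funext i
  obtain ⟨v0, v1, v2, v3⟩ := TF4.par_vals θ (mon θ (v.1.1, 2 * v.1.2) u) (mon θ (v.2.1, 2 * v.2.2) u)
  rcases TF4.nd_cases i with rfl | rfl | rfl | rfl
  · rw [v0, map_mon θ hsq]; rfl
  · rw [v1, map_mon θ hsq]; rfl
  · rw [v2]; rfl
  · rw [v3]; rfl

/-- the torus element -/
noncomputable def tor (v : Vec) (u : Kˣ) : GL chevF4.Idx K := TF4.C.G.torθ fun i => mon θ (zexp v i) u

theorem tor_fix (v : Vec) (u : Kˣ) :
    tor θ v u ∈ (TF4.twist θ hsq).Fix ⊓ chevF4.diagonalSubgroup K := by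
  rw [tor, torθ_par θ hsq]
  exact (TF4.twist θ hsq).torθ_mem_Fix (TF4.par_fixed θ hsq _ _)

omit hsq in
theorem tor_xu (v : Vec) (u : Kˣ) {r : ℕ} (h : r < chevF4.nroots) (t : K) :
    tor θ v u * TF4.C.G.xu ⟨r, h⟩ t * (tor θ v u)⁻¹ = TF4.C.G.xu ⟨r, h⟩ ((mon θ (chr v r) u : K) * t) := by
  rw [tor, TF4.C.G.torθ_conj_xu, chr, dif_pos h, mon_sum]
  congr 4
  funext i
  rw [mon_smul]

variable [Finite K]

theorem tor_E {v : Vec} (hv : v ∈ vecs) (u : Kˣ) {j : ℕ} (hj : j < 12) (x : K) :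
    tor θ v u * E θ j x * (tor θ v u)⁻¹ = E θ j ((mon θ (kap v j) u : K) * x) := by
  obtain ⟨w, hw⟩ : ∃ w : Kˣ, w ^ (2 : ℤ) = u := by
    obtain ⟨r, hr⟩ := (bijective_frobenius K 2).2 (u : K)
    have hr' : r ^ 2 = (u : K) := by simpa [frobenius_def] using hr
    refine ⟨Units.mk0 r fun e => u.ne_zero (by rw [← hr', e, zero_pow two_ne_zero]), ?_⟩
    rw [zpow_two]
    exact Units.ext (by simpa [sq] using hr')
  have hdbl : ∀ p, mon θ p u = mon θ ((2 : ℤ) • p) w := fun p => by
    rw [mon_smul, ← hw]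
    simp only [mon, map_zpow, mul_zpow, ← zpow_mul, mul_comm (2 : ℤ)]
  set l : Kˣ := mon θ (kap v j) u with hl
  have e0 : mon θ ((2 : ℤ) • kap v j) w = l := (hdbl _).symm
  have e1 : mon θ ((kap v j).2, 2 * (kap v j).1) w = Units.map θ.toMonoidHom l := by
    rw [← e0, show (2 : ℤ) • kap v j = (2 * (kap v j).1, 2 * (kap v j).2) from rfl]
    have := map_mon θ hsq (2 * (kap v j).1) (kap v j).2 w
    exact this.symm
  obtain ⟨v0, v1, -, -⟩ := val_c2 θ x (0 : K)
  obtain ⟨w0, w1, -, -⟩ := val_c2 θ ((l : K) * x) (0 : K)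
  rw [← W_one1 θ (ρ := val θ (c2 x 0)) (T := Sym.v 0) (T1 := Sym.v 1) (x := x) (by rw [Sym.ev_v, v0])
      (by rw [Sym.ev_v, v1]),
    ← W_one1 θ (ρ := val θ (c2 ((l : K) * x) 0)) (T := Sym.v 0) (T1 := Sym.v 1) (x := (l : K) * x)
      (by rw [Sym.ev_v, w0]) (by rw [Sym.ev_v, w1]),
    ← strip_eq _ (one1 j (Sym.v 0) (Sym.v 1)), ← strip_eq (val θ (c2 ((l : K) * x) 0))]
  have hok := List.all_eq_true.1 (scale_ok v hv j hj)
  have hpos : posW (strip (one1 j (Sym.v 0) (Sym.v 1))) = true :=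
    List.all_eq_true.2 fun y hy => List.all_eq_true.1 (posW_one1 _ _ _) y (List.mem_of_mem_filter hy)
  revert hok hpos
  generalize strip (one1 j (Sym.v 0) (Sym.v 1)) = L
  intro hok hpos
  induction L with
  | nil => simp [Sym.wev]
  | cons y L ih =>
    have hp := posW_spec hpos y List.mem_cons_self
    have hpos' : posW L = true := by
      simp only [posW, List.all_cons, Bool.and_eq_true] at hpos
      exact hpos.2
    simp only [W, Sym.wev_cons] at ih ⊢
    rw [← ih (fun z hz => hok z (List.mem_cons_of_mem _ hz)) hpos',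
      show ∀ a b : GL chevF4.Idx K, tor θ v u * (a * b) * (tor θ v u)⁻¹ =
        (tor θ v u * a * (tor θ v u)⁻¹) * (tor θ v u * b * (tor θ v u)⁻¹) from fun a b => by group,
      Sym.xp_pos _ TF4.C hp, Sym.xp_pos _ TF4.C hp, tor_xu θ v u hp.1]
    congr 2
    have hy := List.all_eq_true.1 (hok y List.mem_cons_self)
    unfold Sym.ev
    rw [← List.sum_map_mul_left]
    refine congrArg List.sum (List.map_congr_left fun m hm => ?_)
    have hm' := hy m hm
    simp only [Bool.and_eq_true, decide_eq_true_eq] at hm'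
    obtain ⟨hvars, hexp⟩ := hm'
    rw [hdbl, ← hexp, mon_add, mon_smul, e0, mon_smul, e1, zpow_natCast, zpow_natCast]
    clear hexp hm
    unfold Sym.mev
    induction m with
    | nil => simp
    | cons i m ihm =>
      simp only [List.all_cons, Bool.and_eq_true, Nat.blt_eq] at hvars
      have ih2 := ihm hvars.2
      simp only [Units.val_mul, Units.val_pow_eq_pow_val] at ih2 ⊢
      simp only [List.map_cons, List.prod_cons, List.count_cons]
      rcases (show i = 0 ∨ i = 1 by omega) with rfl | rfl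
      · simp only [beq_self_eq_true, if_true, show ((0 : ℕ) == 1) = false from rfl, Bool.false_eq_true,
          if_false, add_zero, pow_succ, v0, w0]
        rw [← ih2]; ring
      · simp only [beq_self_eq_true, if_true, show ((1 : ℕ) == 0) = false from rfl, Bool.false_eq_true,
          if_false, add_zero, pow_succ, v1, w1, map_mul, Units.coe_map]
        rw [← ih2]
        simp only [Units.coe_map]
        show _ = θ.toMonoidHom (l : K) * _ * _
        ring

end CfsgLib.Lie.Mult.TF4Rel
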