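import Cfsg.Agent.Lib.Lie.Mult.Ladder
import Cfsg.Agent.Lib.Lie.Mult.TF4.Torus

/-!
# The multiplier of `²F₄(q)` at the prime two

The twelve parameter subgroups form a ladder.  Only the two parameter subgroups of a ray have proportional
weights; their lifts commute, the second being made of commutators from the neighbouring rays.
-/

set_option autoImplicit false
set_option maxRecDepth 100000
set_option maxHeartbeats 1000000
set_option linter.unusedSectionVars false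

namespace CfsgLib.Lie.Mult.TF4Rel

open Cfsg.Lie CfsgLib.Lie CfsgLib.Lie.CharTwo CfsgLib.Lie.Chev TF4Invol
open scoped MatrixGroups commutatorElement

theorem ord_facts : (∀ j < 12, at' (ord.idxOf j) = j ∧ ord.idxOf j < 12) ∧
    (∀ a < 12, at' a < 12 ∧ ord.idxOf (at' a) = a ∧ ∀ o ∈ low a, o < 12) ∧
    ∀ j < 12, ∀ a < 12, ord.idxOf j ≤ a → j ∈ low a := by decide +kernel

theorem aW_zero : ∀ j ∈ [0, 8, 11], zerosOK (others []) (aW j) = true := by decide +kernel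

theorem others_lt : ∀ l : List ℕ, ∀ o ∈ others l, o < 12 := fun l o ho => by
  have h : ∀ o ∈ ord, o < 12 := by decide
  exact h o (List.mem_of_mem_filter ho)

theorem mem_others {l : List ℕ} {j : ℕ} (hj : j < 12) (hl : j ∉ l) : j ∈ others l := by
  have h : ∀ j < 12, j ∈ ord := by decide
  exact List.mem_filter.2 ⟨h j hj, by simpa using hl⟩

theorem single_coord : Sym.coord 36 (col (Pw (sub (others [2]) 12))) = Sym.v 4 ∧
    Sym.coord 44 (col (Pw (sub (others [5]) 12))) = Sym.v 10 ∧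
    Sym.coord 40 (col (Pw (sub (others [8]) 12))) = Sym.v 16 ∧
    ∀ l ∈ [2, 5, 8], (col (Pw (sub (others [l]) 12))).map Prod.fst = List.range' 24 24 := by decide +kernel

/-- the image of a parameter under the first reflection -/
noncomputable def hopW (j : ℕ) : Sym.Word := relabel (hopF [0]) 0 (strip (one1 j (Sym.v 0) (Sym.v 1)))

theorem hop_ok : posW (strip (one1 10 (Sym.v 0) (Sym.v 1))) = true ∧
    posW (strip (one1 11 (Sym.v 0) (Sym.v 1))) = true ∧ posW (hopW 10) = true ∧ posW (hopW 11) = true ∧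
    zerosOK (others [1, 2]) (hopW 10) = true ∧ zerosOK (others [2]) (hopW 11) = true ∧ 0 < orbGraphF4.no := by
  decide +kernel

/-- commutation of the lift of `g` with lifts of a commutator -/
theorem commute_via {P G : Type*} [Group P] [Group G] {p : P →* G} (hc : p.ker ≤ Subgroup.center P) {L : G → P}
    (hL : ∀ g, p (L g) = g) {g a b d : G} (hgb : g * b = b * g) (hd : ⁅g, a⁆ = d) (hda : d * a = a * d)
    (hdb : Commute (L d) (L b)) : Commute (L g) ⁅L a, L b⁆ := by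
  have e : L g * ⁅L a, L b⁆ * (L g)⁻¹ = ⁅L a, L b⁆ := by
    rw [conjugate_commutatorElement, SLUniv.comm_congr hc (a' := L d * L a) (b' := L b)]
    · have h1 : Commute (L d) ⁅L a, L b⁆ := SLUniv.commute_comm hc
        (by rw [hL, hL]; exact hda) (by rw [hL, hL]; simpa only [hL] using hdb.map p)
      rw [show ⁅L d * L a, L b⁆ = L d * ⁅L a, L b⁆ * (L d)⁻¹ * ⁅L d, L b⁆ by
        simp only [commutatorElement_def]; group, commutatorElement_eq_one_iff_commute.2 hdb, mul_one,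
        h1.eq, mul_inv_cancel_right]
    · rw [map_mul, map_mul, map_mul, map_inv, hL, hL, hL, ← hd, commutatorElement_def]; group
    · rw [map_mul, map_mul, map_inv, hL, hL, hgb, mul_inv_cancel_right]
  exact mul_inv_eq_iff_eq_mul.1 e

variable {K : Type*} [Field K] [Fintype K] [CharP K 2] (θ : K ≃+* K) (hsq : ∀ x, θ.symm x = θ x ^ 2)
  {Γ : Subgroup (GL chevF4.Idx K)} (hP : TwGp (TF4.orbits θ hsq) Γ)
  (hs : ∀ g ∈ (TF4.twist θ hsq).Fix ⊓ chevF4.posUnipotent K, ∃ c, P θ c = g)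

/-- a parameter in the group -/
noncomputable def Eg (j : ℕ) (x : K) : ↥Γ := ⟨E θ j x, hP.toPre.U_le (P_mem_inf θ hsq _)⟩

/-- the layers -/
def layer (a : ℕ) : Set ↥Γ := Set.range (Eg θ hsq hP (at' a))

/-- the torus elements in use -/
def tors : Set ↥Γ := {h | ∃ v ∈ vecs, ∃ u : Kˣ, (h : GL chevF4.Idx K) = tor θ v u}

include hP hs

theorem exists_coords {g : ↥Γ} {ρ : ℕ → K} {w : Sym.Word} (hw : posW w = true)
    (he : (g : GL chevF4.Idx K) = W ρ w) {os : List ℕ} (hos : ∀ o ∈ os, o < 12) (h : zerosOK os w = true) :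
    ∃ c : ℕ → K, P θ c = W ρ w ∧ (∀ o ∈ os, c o = 0) ∧
      g = ((List.range 12).map fun j => Eg θ hsq hP j (c j)).prod := by
  obtain ⟨c, hc⟩ := hs (g : GL chevF4.Idx K) (Subgroup.mem_inf.2 ⟨hP.le g.2, he ▸ W_mem_U ρ hw⟩)
  refine ⟨c, hc.trans he, zero_of θ hw (hc.trans he) hos h, Subtype.ext ?_⟩
  rw [← hc, P_prod θ c]
  simp only [SubmonoidClass.coe_list_prod, List.map_map]
  rfl

omit hs in
theorem Eg_zero {j : ℕ} (hj : j < 12) : Eg θ hsq hP j 0 = 1 := Subtype.ext (E_zero θ j hj)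

omit hs in
theorem prod_mem_of_zero {c : ℕ → K} {H : Subgroup ↥Γ}
    (h : ∀ j < 12, c j = 0 ∨ ∀ x, Eg θ hsq hP j x ∈ H) :
    ((List.range 12).map fun j => Eg θ hsq hP j (c j)).prod ∈ H := by
  refine list_prod_mem fun g hg => ?_
  obtain ⟨j, hj, rfl⟩ := List.mem_map.1 hg
  rcases h j (List.mem_range.1 hj) with h | h
  · rw [h, Eg_zero θ hsq hP (List.mem_range.1 hj)]; exact one_mem _
  · exact h _

theorem tail_of_low {g : ↥Γ} {ρ : ℕ → K} {w : Sym.Word} (hw : posW w = true)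
    (he : (g : GL chevF4.Idx K) = W ρ w) {a : ℕ} (ha : a < 12) (h : zerosOK (low a) w = true) :
    g ∈ Ladder.tail (layer θ hsq hP) 12 (a + 1) := by
  obtain ⟨o1, o2, o3⟩ := ord_facts
  obtain ⟨c, -, hz, rfl⟩ := exists_coords θ hsq hP hs hw he (o2 a ha).2.2 h
  refine prod_mem_of_zero θ hsq hP fun j hj => ?_
  by_cases hja : ord.idxOf j ≤ a
  · exact Or.inl (hz j (o3 j hj a ha hja))
  · refine Or.inr fun x => Ladder.mem_tail (by omega) (o1 j hj).2 ⟨x, ?_⟩
    rw [(o1 j hj).1]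

omit hs in
theorem coe_comm (i j : ℕ) (s t : K) :
    ((⁅Eg θ hsq hP i s, Eg θ hsq hP j t⁆ : ↥Γ) : GL chevF4.Idx K) = W (val θ (c2 s t)) (cW i j) := by
  rw [W_cW]; rfl

omit hs in
theorem coe_add (j : ℕ) (s t : K) :
    (((Eg θ hsq hP j (s + t))⁻¹ * (Eg θ hsq hP j s * Eg θ hsq hP j t) : ↥Γ) : GL chevF4.Idx K) =
      W (val θ (c2 s t)) (aW j) := by
  rw [W_aW]; rfl

theorem posW_aW (j : ℕ) : posW (aW j) = true :=
  posW_append (posW_append (posW_reverse (posW_one1 _ _ _)) (posW_one1 _ _ _)) (posW_one1 _ _ _)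

theorem single_of {g : ↥Γ} {ρ : ℕ → K} {w : Sym.Word} (hw : posW w = true)
    (he : (g : GL chevF4.Idx K) = W ρ w) {l : ℕ} (hl : l < 12) (h : zerosOK (others [l]) w = true) :
    ∃ c : ℕ → K, P θ c = W ρ w ∧ (∀ o ∈ others [l], c o = 0) ∧ g = Eg θ hsq hP l (c l) := by
  obtain ⟨c, hc, hz, -⟩ := exists_coords θ hsq hP hs hw he (others_lt _) h
  refine ⟨c, hc, hz, Subtype.ext ?_⟩
  rw [he, ← hc]
  refine P_congr fun i hi => ?_
  by_cases hil : i = l
  · rw [if_pos hil, hil]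
  · rw [if_neg hil]; exact hz i (mem_others hi (by simpa using hil))

theorem one_of {g : ↥Γ} {ρ : ℕ → K} {w : Sym.Word} (hw : posW w = true)
    (he : (g : GL chevF4.Idx K) = W ρ w) (h : zerosOK (others []) w = true) : g = 1 := by
  obtain ⟨c, -, hz, rfl⟩ := exists_coords θ hsq hP hs hw he (others_lt _) h
  exact Subgroup.mem_bot.1 (prod_mem_of_zero θ hsq hP fun j hj => Or.inl (hz j (mem_others hj (by simp))))

theorem commute_of_table {i j : ℕ}
    (h : (i, j) ∈ [(5, 3), (5, 11), (7, 11), (3, 0), (3, 4), (2, 0), (2, 4), (0, 1), (4, 8), (2, 8), (2, 5), (3, 2)])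
    (s t : K) : Eg θ hsq hP i s * Eg θ hsq hP j t = Eg θ hsq hP j t * Eg θ hsq hP i s :=
  commutatorElement_eq_one_iff_mul_comm.1
    (one_of θ hsq hP hs (g := ⁅Eg θ hsq hP i s, Eg θ hsq hP j t⁆) (ρ := val θ (c2 s t)) (w := cW i j)
      (posW_cW i j) (coe_comm θ hsq hP i j s t) (cW_one (i, j) h))

omit hs in
theorem tor_conj {v : Vec} (hv : v ∈ vecs) {h : ↥Γ} {u : Kˣ} (hh : (h : GL chevF4.Idx K) = tor θ v u) {j : ℕ}
    (hj : j < 12) (x : K) : h * Eg θ hsq hP j x * h⁻¹ = Eg θ hsq hP j ((mon θ (kap v j) u : K) * x) :=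
  Subtype.ext (by
    show (h : GL chevF4.Idx K) * E θ j x * (h : GL chevF4.Idx K)⁻¹ = _
    rw [hh]; exact tor_E θ hsq hv u hj x)

omit hs in
theorem exists_tor {v : Vec} (hv : v ∈ vecs) (u : Kˣ) :
    ∃ h ∈ tors θ (Γ := Γ), (h : GL chevF4.Idx K) = tor θ v u :=
  ⟨⟨_, hP.H_le (tor_fix θ hsq v u)⟩, ⟨v, hv, u, rfl⟩, rfl⟩

theorem layers : Ladder.Layers (layer θ hsq hP) 12 (tors θ (Γ := Γ)) where
  comm a b ha hb g hg v hv := by
    obtain ⟨s, rfl⟩ := hg
    obtain ⟨t, rfl⟩ := hv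
    exact tail_of_low θ hsq hP hs (posW_cW _ _) (coe_comm θ hsq hP _ _ s t) (max_lt ha hb) (cW_low a ha b hb)
  Hcomm x hx y hy := by
    obtain ⟨v, -, u, hu⟩ := hx
    obtain ⟨v', -, u', hu'⟩ := hy
    exact Subtype.ext (by
      show (x : GL chevF4.Idx K) * y = y * x
      rw [hu, hu']
      exact TF4.C.G.diagonal_comm (tor_fix θ hsq v u).2 (tor_fix θ hsq v' u').2)
  Hinv h hh a ha g hg := by
    obtain ⟨v, hv, u, hu⟩ := hh
    obtain ⟨x, rfl⟩ := hg
    rw [tor_conj θ hsq hP hv hu (ord_facts.2.1 a ha).1]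
    exact Ladder.mem_tail le_rfl ha ⟨_, rfl⟩

theorem moves {a : ℕ} (ha : a < 12) {v : Vec} (hv : v ∈ vecs) {u : Kˣ} {h : ↥Γ}
    (hu : (h : GL chevF4.Idx K) = tor θ v u) (hl : mon θ (kap v (at' a)) u ≠ 1) :
    ∀ g ∈ layer θ hsq hP a, ∃ w ∈ Ladder.tail (layer θ hsq hP) 12 a,
      ⁅h, w⁆⁻¹ * g ∈ Ladder.tail (layer θ hsq hP) 12 (a + 1) := by
  rintro g ⟨x, rfl⟩
  set l : K := ((mon θ (kap v (at' a)) u : Kˣ) : K) with hldef
  have hl1 : l + 1 ≠ 0 := fun e => hl (Units.ext (by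
    rw [← hldef, eq_neg_of_add_eq_zero_left e, CharTwo.neg_eq, Units.val_one]))
  set y := x / (l + 1) with hy
  refine ⟨Eg θ hsq hP (at' a) y, Ladder.mem_tail le_rfl ha ⟨_, rfl⟩, ?_⟩
  have hly : l * y = x + y := by
    rw [hy]; field_simp; ring_nf; rw [CharTwo.two_eq_zero (R := K)]; ring
  have hd : (Eg θ hsq hP (at' a) (x + y))⁻¹ * (Eg θ hsq hP (at' a) x * Eg θ hsq hP (at' a) y) ∈
      Ladder.tail (layer θ hsq hP) 12 (a + 1) :=
    tail_of_low θ hsq hP hs (posW_aW θ hsq hP hs _) (coe_add θ hsq hP _ x y) ha (aW_low a ha)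
  have := Ladder.U_conj (layers θ hsq hP hs)
    (Ladder.mem_tail (Nat.zero_le a) ha (⟨y, rfl⟩ : Eg θ hsq hP (at' a) y ∈ layer θ hsq hP a)) hd
  convert this using 1
  rw [commutatorElement_def, tor_conj θ hsq hP hv hu (ord_facts.2.1 a ha).1, hly]
  group

variable {Pr : Type*} [Group Pr] {p : Pr →* ↥Γ} (hc : p.ker ≤ Subgroup.center Pr) {L : ↥Γ → Pr}
  (hL : ∀ g, p (L g) = g)
include hc hL

theorem mixed {i j : ℕ} (hi : i < 12) (hj : j < 12) (hne : j ≠ i) (hne' : j ≠ partner i)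
    (hadd : j ∈ [0, 8, 11])
    (hcom : (i, j) ∈ [(5, 3), (5, 11), (7, 11), (3, 0), (3, 4), (2, 0), (2, 4), (0, 1), (4, 8), (2, 8), (2, 5), (3, 2)])
    {u : Kˣ} (hu : u ≠ 1) (x y : K) : Commute (L (Eg θ hsq hP i x)) (L (Eg θ hsq hP j y)) := by
  obtain ⟨h, -, hh⟩ := exists_tor θ hsq hP (vecs_mem i hi).1 u
  obtain ⟨f0, -, fk⟩ := fix_ok i hi
  refine Ladder.commute_of_scaled hc hL (h := h) (b := Eg θ hsq hP j)
    (l := ((mon θ (kap (fixv i) j) u : Kˣ) : K)) (fun a b => ?_)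
    (fun a => commute_of_table θ hsq hP hs hcom x a) ?_ ?_ (tor_conj θ hsq hP (vecs_mem i hi).1 hh hj) y
  · exact inv_mul_eq_one.1
      (one_of θ hsq hP hs (posW_aW θ hsq hP hs j) (coe_add θ hsq hP j a b) (aW_zero j hadd))
  · refine mul_inv_eq_iff_eq_mul.1 ?_
    rw [tor_conj θ hsq hP (vecs_mem i hi).1 hh hi, f0, show mon θ ((0 : ℤ), (0 : ℤ)) u = 1 from mon_zero θ u,
      Units.val_one, one_mul]
  · intro e
    exact hu (eq_one_of_good θ hsq (((fk j hj).resolve_left hne).resolve_left hne') (Units.ext e))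

/-- the three rays made of commutators -/
theorem rays {u₀ : Kˣ} (hu₀ : u₀ ≠ 1) (x y : K) :
    Commute (L (Eg θ hsq hP 1 x)) (L (Eg θ hsq hP 2 y)) ∧ Commute (L (Eg θ hsq hP 4 x)) (L (Eg θ hsq hP 5 y)) ∧
      Commute (L (Eg θ hsq hP 7 x)) (L (Eg θ hsq hP 8 y)) := by
  obtain ⟨q2, q5, q8, ql⟩ := single_coord
  obtain ⟨k2, k5, k8⟩ := cW_coord
  have surj : ∀ (i j l k : ℕ) (t : K) (pl : Sym.Poly), ((i, j), l) ∈ [((4, 0), 2), ((0, 4), 2), ((0, 8), 5), ((3, 11), 8), ((1, 4), 3), ((7, 3), 5)] →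
      l ∈ [2, 5, 8] → Sym.coord k (col (cW i j)) = pl → Sym.coord k (col (Pw (sub (others [l]) 12))) = Sym.v (2 * l) →
      Sym.ev (val θ (c2 1 t)) pl = y → Eg θ hsq hP l y = ⁅Eg θ hsq hP i 1, Eg θ hsq hP j t⁆ := by
    intro i j l k t pl hmem hl hk hk' hev
    have hl12 : l < 12 := by
      simp only [List.mem_cons, List.not_mem_nil, or_false] at hl
      omega
    obtain ⟨c, hcw, hz, hg⟩ := single_of θ hsq hP hs (posW_cW i j) (coe_comm θ hsq hP i j 1 t) hl12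
      (cW_single ((i, j), l) hmem)
    rw [hg]
    congr 1
    have hok : Ok (others [l]) 12 c := ⟨hz, fun h => absurd h (by norm_num)⟩
    have e := (read θ hok (ql l hl) k).symm.trans
      (coord_eq (posW_Pw _) (posW_cW i j) (by decide +kernel)
        (by
          have := cW_single ((i, j), l) hmem
          simp only [zerosOK, Bool.and_eq_true, decide_eq_true_eq] at this
          exact this.1) hcw k)
    rw [hk', hk, Sym.ev_v, val_even θ hl12, hev] at e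
    exact e.symm
  have hd : ∀ (i j l : ℕ) (s t : K), ((i, j), l) ∈ [((4, 0), 2), ((0, 4), 2), ((0, 8), 5), ((3, 11), 8), ((1, 4), 3), ((7, 3), 5)] → l < 12 →
      ∃ z, ⁅Eg θ hsq hP i s, Eg θ hsq hP j t⁆ = Eg θ hsq hP l z := fun i j l s t hmem hl => by
    obtain ⟨c, -, -, hg⟩ := single_of θ hsq hP hs (posW_cW i j) (coe_comm θ hsq hP i j s t) hl
      (cW_single ((i, j), l) hmem)
    exact ⟨_, hg⟩
  have tv := val_c2 θ (1 : K)
  have com := @commute_of_table K _ _ _ θ hsq Γ hP hs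
  refine ⟨?_, ?_, ?_⟩
  · set t := θ.symm y
    have hv := surj 0 4 2 36 t _ (by simp) (by simp) k2 q2 (by
      obtain ⟨-, w1, -, w3⟩ := tv t
      simp [Sym.ev_cons, Sym.ev_nil, Sym.mev, w1, w3, t])
    obtain ⟨z, hz⟩ := hd 1 4 3 x t (by simp) (by norm_num)
    refine SLUniv.commute_congr hc rfl
      (show p (L (Eg θ hsq hP 2 y)) = p ⁅L (Eg θ hsq hP 0 1), L (Eg θ hsq hP 4 t)⁆ by
        rw [map_commutatorElement, hL, hL, hL, hv]) ?_
    rw [← commutatorElement_inv]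
    exact (commute_via hc hL (com (by simp) (1 : K) x).symm hz (com (by simp) z t)
      (mixed θ hsq hP hs hc hL (by norm_num) (by norm_num) (by norm_num) (by decide) (by simp) (by simp) hu₀ z 1)).inv_right
  · have hv := surj 0 8 5 44 y _ (by simp) (by simp) k5 q5 (by
      obtain ⟨-, w1, w2, -⟩ := tv y
      simp [Sym.ev_cons, Sym.ev_nil, Sym.mev, w1, w2])
    obtain ⟨z, hz⟩ := hd 4 0 2 x 1 (by simp) (by norm_num)
    refine SLUniv.commute_congr hc rfl
      (show p (L (Eg θ hsq hP 5 y)) = p ⁅L (Eg θ hsq hP 0 1), L (Eg θ hsq hP 8 y)⁆ by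
        rw [map_commutatorElement, hL, hL, hL, hv]) ?_
    exact commute_via hc hL (com (by simp) x y) hz (com (by simp) z 1)
      (mixed θ hsq hP hs hc hL (by norm_num) (by norm_num) (by norm_num) (by decide) (by simp) (by simp) hu₀ z y)
  · have hv := surj 3 11 8 40 y _ (by simp) (by simp) k8 q8 (by
      obtain ⟨-, w1, w2, -⟩ := tv y
      simp [Sym.ev_cons, Sym.ev_nil, Sym.mev, w1, w2])
    obtain ⟨z, hz⟩ := hd 7 3 5 x 1 (by simp) (by norm_num)
    refine SLUniv.commute_congr hc rfl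
      (show p (L (Eg θ hsq hP 8 y)) = p ⁅L (Eg θ hsq hP 3 1), L (Eg θ hsq hP 11 y)⁆ by
        rw [map_commutatorElement, hL, hL, hL, hv]) ?_
    exact commute_via hc hL (com (by simp) x y) hz (com (by simp) z 1)
      (mixed θ hsq hP hs hc hL (by norm_num) (by norm_num) (by norm_num) (by decide) (by simp) (by simp) hu₀ z y)

/-- the last ray, moved to the first by a reflection -/
theorem last_ray {u₀ : Kˣ} (hu₀ : u₀ ≠ 1) (x y : K) :
    Commute (L (Eg θ hsq hP 10 x)) (L (Eg θ hsq hP 11 y)) := by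
  obtain ⟨p10, p11, r10, r11, z10, z11, h0⟩ := hop_ok
  obtain ⟨n, hn, π, hπ, e⟩ := exists_hop hsq hP [0] (fun o ho => by rw [List.mem_singleton.1 ho]; exact h0)
  choose a ha using hπ
  let e' : ℕ → K := fun r => if h : r < chevF4.nroots then (a ⟨r, h⟩ : K) else 0
  have he : ∀ r (h : r < chevF4.nroots) (h' : hopF [0] r < chevF4.nroots) (t : K),
      n * TF4.C.G.xu ⟨r, h⟩ t * n⁻¹ = TF4.C.G.xu ⟨hopF [0] r, h'⟩ (e' r * t) := fun r h h' t => by
    simp only [e', dif_pos h]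
    rw [ha]
    congr 1
    exact Fin.ext (e _)
  have hE : ∀ j z, E θ j z = W (val θ (c2 z 0)) (strip (one1 j (Sym.v 0) (Sym.v 1))) := fun j z => by
    obtain ⟨v0, v1, -, -⟩ := val_c2 θ z (0 : K)
    rw [strip_eq, W_one1 θ (x := z) (by rw [Sym.ev_v, v0]) (by rw [Sym.ev_v, v1])]
  set N : ↥Γ := ⟨n, hn⟩
  have hcoe : ∀ j z, posW (strip (one1 j (Sym.v 0) (Sym.v 1))) = true → posW (hopW j) = true →
      ∃ ρ, ((N * Eg θ hsq hP j z * N⁻¹ : ↥Γ) : GL chevF4.Idx K) = W ρ (hopW j) := fun j z h1 h2 => by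
    refine ⟨fun i => (([] : List K) ++ (strip (one1 j (Sym.v 0) (Sym.v 1))).map fun x =>
      e' x.1 * Sym.ev (val θ (c2 z 0)) x.2).getD i 0, ?_⟩
    show n * E θ j z * n⁻¹ = _
    rw [hE]
    exact conj_word (val θ (c2 z 0)) (n := n) (hopF [0]) e' _ [] (fun w _ h h' t => he w.1 h h' t) h1 h2
  obtain ⟨ρ, hρ⟩ := hcoe 10 x p10 r10
  obtain ⟨ρ', hρ'⟩ := hcoe 11 y p11 r11
  obtain ⟨c, hcc, hz, -⟩ := exists_coords θ hsq hP hs r10 hρ (others_lt _) z10
  obtain ⟨c', -, -, hg'⟩ := single_of θ hsq hP hs r11 hρ' (by norm_num) z11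
  have hprod : N * Eg θ hsq hP 10 x * N⁻¹ = Eg θ hsq hP 1 (c 1) * Eg θ hsq hP 2 (c 2) := by
    refine Subtype.ext ?_
    rw [hρ, ← hcc, P_prod θ c]
    have h : ∀ j < 12, j ≠ 1 → j ≠ 2 → E θ j (c j) = 1 := fun j hj h1 h2 => by
      rw [hz j (mem_others hj (by simp [h1, h2])), E_zero θ j hj]
    simp only [List.range_succ, List.range_zero, List.nil_append, List.cons_append, List.map_cons, List.map_nil,
      List.prod_cons, List.prod_nil]
    rw [h 0 (by norm_num) (by norm_num) (by norm_num), h 3 (by norm_num) (by norm_num) (by norm_num),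
      h 4 (by norm_num) (by norm_num) (by norm_num), h 5 (by norm_num) (by norm_num) (by norm_num),
      h 6 (by norm_num) (by norm_num) (by norm_num), h 7 (by norm_num) (by norm_num) (by norm_num),
      h 8 (by norm_num) (by norm_num) (by norm_num), h 9 (by norm_num) (by norm_num) (by norm_num),
      h 10 (by norm_num) (by norm_num) (by norm_num), h 11 (by norm_num) (by norm_num) (by norm_num)]
    simp only [one_mul, mul_one]
    rfl
  have hY : ∀ a b : K, Commute (L (Eg θ hsq hP 2 a)) (L (Eg θ hsq hP 2 b)) := fun a b => by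
    obtain ⟨q2, -, -, ql⟩ := single_coord
    set t := θ.symm b
    obtain ⟨cb, hcb, hzb, hgb⟩ := single_of θ hsq hP hs (posW_cW 0 4) (coe_comm θ hsq hP 0 4 1 t) (by norm_num)
      (cW_single ((0, 4), 2) (by simp))
    have hb : cb 2 = b := by
      have e := (read θ (one := 12) (c := cb) ⟨hzb, fun h => absurd h (by norm_num)⟩ (ql 2 (by simp)) 36).symm.trans
        (coord_eq (posW_Pw _) (posW_cW 0 4) (by decide +kernel) (by decide +kernel) hcb 36)
      obtain ⟨-, w1, -, w3⟩ := val_c2 θ (1 : K) t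
      rw [q2, cW_coord.1, Sym.ev_v, show (4 : ℕ) = 2 * 2 from rfl, val_even θ (by norm_num)] at e
      simpa [Sym.ev_cons, Sym.ev_nil, Sym.mev, w1, w3, t] using e
    rw [hb] at hgb
    refine SLUniv.commute_congr hc rfl
      (show p (L (Eg θ hsq hP 2 b)) = p ⁅L (Eg θ hsq hP 0 1), L (Eg θ hsq hP 4 t)⁆ by
        rw [map_commutatorElement, hL, hL, hL, hgb]) ?_
    exact SLUniv.commute_comm hc (by rw [hL, hL]; exact commute_of_table θ hsq hP hs (by simp) a 1)
      (by rw [hL, hL]; exact commute_of_table θ hsq hP hs (by simp) a t)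
  have key : Commute (L (N * Eg θ hsq hP 10 x * N⁻¹)) (L (N * Eg θ hsq hP 11 y * N⁻¹)) := by
    rw [hg', hprod]
    refine SLUniv.commute_congr hc (show p _ = p (L (Eg θ hsq hP 1 (c 1)) * L (Eg θ hsq hP 2 (c 2))) by
      rw [map_mul, hL, hL, hL]) rfl (Commute.mul_left ?_ (hY _ _))
    exact (rays θ hsq hP hs hc hL hu₀ _ _).1
  have h2 := key.map (MulAut.conj (L N)⁻¹).toMonoidHom
  refine SLUniv.commute_congr hc ?_ ?_ h2 <;>
    simp only [MulEquiv.toMonoidHom_eq_coe, MonoidHom.coe_coe, MulAut.conj_apply] <;>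
    simp only [map_mul, map_inv, hL] <;> group

/-- lifts of a layer do not pair -/
theorem crux (hq : 4 < Fintype.card K) {u₀ : Kˣ} (hu₀ : u₀ ≠ 1) (k : ℕ) (hk : k < 12)
    (S : Ladder.Lift p (layer θ hsq hP) 12 (tors θ (Γ := Γ)) (k + 1)) (i : ℕ) (hik : i ≤ k) :
    ∀ g ∈ layer θ hsq hP i, ∀ v ∈ layer θ hsq hP k, ⁅L g, L v⁆ ∈ S.N := by
  obtain ⟨o1, o2, -⟩ := ord_facts
  have hD := layers θ hsq hP hs
  have hi : i < 12 := lt_of_le_of_lt hik hk
  obtain ⟨hai, -, -⟩ := o2 i hi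
  obtain ⟨hak, -, -⟩ := o2 k hk
  rintro g ⟨s, rfl⟩ v ⟨t, rfl⟩
  obtain ⟨f0, fs, fk⟩ := fix_ok (at' i) hai
  by_cases hsame : i = k
  · subst hsame
    refine Ladder.crux_self S hc hD hL hq (f := Eg θ hsq hP (at' i))
      (fun z => Ladder.mem_tail le_rfl hi ⟨z, rfl⟩)
      (fun a b => tail_of_low θ hsq hP hs (posW_aW θ hsq hP hs _) (coe_add θ hsq hP _ a b) hi (aW_low i hi))
      (fun c hc0 => ?_) s t
    obtain ⟨u, hu⟩ := exists_mon θ hsq fs (Units.mk0 c hc0)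
    obtain ⟨h, hh, he⟩ := exists_tor θ hsq hP (vecs_mem _ hai).2 u
    refine ⟨h, hh, fun z => ?_⟩
    rw [tor_conj θ hsq hP (vecs_mem _ hai).2 he hai, hu, Units.val_mk0, inv_mul_cancel]
    exact one_mem _
  have hne : at' k ≠ at' i := fun e => hsame (by rw [← (o2 i hi).2.1, ← (o2 k hk).2.1, e])
  by_cases hpart : at' k = partner (at' i)
  · have hpairs : ∀ a < 12, ∀ b < 12, b = a ∨ b ≠ partner a ∨
        (a, b) ∈ [(1, 2), (2, 1), (4, 5), (5, 4), (7, 8), (8, 7), (10, 11), (11, 10)] := by decide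
    have hm := ((hpairs _ hai _ hak).resolve_left hne).resolve_left fun e => e hpart
    have hcomm : Commute (L (Eg θ hsq hP (at' i) s)) (L (Eg θ hsq hP (at' k) t)) := by
      have r := rays θ hsq hP hs hc hL hu₀
      have l := last_ray θ hsq hP hs hc hL hu₀
      simp only [List.mem_cons, List.not_mem_nil, or_false, Prod.mk.injEq] at hm
      rcases hm with ⟨e1, e2⟩ | ⟨e1, e2⟩ | ⟨e1, e2⟩ | ⟨e1, e2⟩ | ⟨e1, e2⟩ | ⟨e1, e2⟩ | ⟨e1, e2⟩ | ⟨e1, e2⟩ <;>
        rw [e1, e2]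
      exacts [(r s t).1, (r t s).1.symm, (r s t).2.1, (r t s).2.1.symm, (r s t).2.2, (r t s).2.2.symm, l s t,
        (l t s).symm]
    rw [commutatorElement_eq_one_iff_commute.2 hcomm]
    exact one_mem _
  have hgood := ((fk (at' k) hak).resolve_left hne).resolve_left hpart
  obtain ⟨h, hh, he⟩ := exists_tor θ hsq hP (vecs_mem _ hai).1 u₀
  refine Ladder.crux_fix S hc hD hL (h := h) (Ladder.mem_tail (Nat.zero_le i) hi ⟨s, rfl⟩) hh ?_ hk
    (moves θ hsq hP hs hk (vecs_mem _ hai).1 he fun e => hu₀ (eq_one_of_good θ hsq hgood e)) _ ⟨t, rfl⟩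
  refine mul_inv_eq_iff_eq_mul.1 ?_
  rw [tor_conj θ hsq hP (vecs_mem _ hai).1 he hai, f0, show mon θ ((0 : ℤ), (0 : ℤ)) u₀ = 1 from mon_zero θ u₀,
    Units.val_one, one_mul]

/-- no kernel element in the derived group of the preimage of the unipotent group -/
theorem inter [Finite Pr] (hq : 4 < Fintype.card K) {z : Pr} (hz : z ∈ p.ker)
    (hz' : z ∈ ⁅(Ladder.tail (layer θ hsq hP) 12 0).comap p, (Ladder.tail (layer θ hsq hP) 12 0).comap p⁆) :
    z = 1 := by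
  obtain ⟨u₀, hu₀⟩ : ∃ u : Kˣ, u ≠ 1 := by
    classical
    haveI : Nontrivial Kˣ := Fintype.one_lt_card_iff_nontrivial.1 (by rw [Fintype.card_units]; omega)
    exact exists_ne 1
  refine Ladder.inter hc (layers θ hsq hP hs) hL (fun k hk => ?_)
    (fun k hk S i hik => crux θ hsq hP hs hc hL hq hu₀ k hk S i hik) hz hz'
  obtain ⟨hak, -, -⟩ := ord_facts.2.1 k hk
  obtain ⟨h, hh, he⟩ := exists_tor θ hsq hP (vecs_mem _ hak).2 u₀
  exact ⟨h, hh, moves θ hsq hP hs hk (vecs_mem _ hak).2 he fun e =>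
    hu₀ (eq_one_of_good θ hsq (fix_ok _ hak).2.1 e)⟩

end CfsgLib.Lie.Mult.TF4Rel
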