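import Cfsg.Agent.Lib.Lie.Chev.Tw.InvolF4Count

/-!
# Commutators of the twelve parameter subgroups of `²F₄`
-/

set_option autoImplicit false
set_option maxRecDepth 100000
set_option maxHeartbeats 1000000
set_option linter.unusedSectionVars false

namespace CfsgLib.Lie.Mult.TF4Rel

open Cfsg.Lie CfsgLib.Lie.CharTwo CfsgLib.Lie.Chev TF4Invol
open scoped MatrixGroups commutatorElement

/-- the parameters in the order of the ladder -/
def ord : List ℕ := [0, 10, 1, 11, 4, 7, 2, 9, 3, 6, 8, 5]

/-- the parameter at a position -/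
def at' (a : ℕ) : ℕ := ord.getD a 0

/-- the leading coordinate of a parameter -/
def lead : List (ℕ × ℕ) :=
  [(24, 0), (26, 2), (36, 4), (43, 6), (29, 9), (44, 10), (45, 12), (31, 14), (40, 16), (32, 18), (25, 20), (28, 22)]

/-- the parameters up to a position -/
def low (a : ℕ) : List ℕ := ord.take (a + 1)

/-- the parameters outside a list, in the order of the ladder -/
def others (l : List ℕ) : List ℕ := ord.filter fun o => !l.contains o

/-- the word of one parameter -/
noncomputable def one1 (j : ℕ) (T T1 : Sym.Poly) : Sym.Word := Pw (gsub [(j, T, T1)])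

/-- the word of a commutator -/
noncomputable def cW (i j : ℕ) : Sym.Word :=
  one1 i (Sym.v 0) (Sym.v 1) ++ one1 j (Sym.v 2) (Sym.v 3) ++ (one1 i (Sym.v 0) (Sym.v 1)).reverse ++
    (one1 j (Sym.v 2) (Sym.v 3)).reverse

/-- the defect of additivity -/
noncomputable def aW (j : ℕ) : Sym.Word :=
  (one1 j (Sym.padd (Sym.v 0) (Sym.v 2)) (Sym.padd (Sym.v 1) (Sym.v 3))).reverse ++ one1 j (Sym.v 0) (Sym.v 1) ++
    one1 j (Sym.v 2) (Sym.v 3)

/-- the coordinates of some parameters vanish -/
noncomputable def zerosOK (l : List ℕ) (w : Sym.Word) : Bool :=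
  decide ((col w).map Prod.fst = List.range' 24 24) &&
    chkStep.go [] (col w) (l.map fun o => lead.getD o (0, 0)) []

theorem lead_div : ∀ o < 12, (lead.getD o (0, 0)).2 / 2 = o := by decide

/-- the word of all parameters one after the other -/
noncomputable def allW : Sym.Word :=
  (List.range 12).flatMap fun j => one1 j (Sym.v (2 * j)) (Sym.v (2 * j + 1))

theorem allW_ok : col allW = col (Pw Sym.v) := by decide +kernel

theorem cW_low : ∀ a < 12, ∀ b < 12, zerosOK (low (max a b)) (cW (at' a) (at' b)) = true := by decide +kernel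

/-- pairs commuting exactly -/
theorem cW_one : ∀ x ∈ [(5, 3), (5, 11), (7, 11), (3, 0), (3, 4), (2, 0), (2, 4), (0, 1), (4, 8), (2, 8), (2, 5), (3, 2)],
    zerosOK (others []) (cW x.1 x.2) = true := by decide +kernel

/-- commutators with a single parameter -/
theorem cW_single : ∀ x ∈ [((4, 0), 2), ((0, 4), 2), ((0, 8), 5), ((3, 11), 8), ((1, 4), 3), ((7, 3), 5)],
    zerosOK (others [x.2]) (cW x.1.1 x.1.2) = true := by decide +kernel

theorem cW_coord : Sym.coord 36 (col (cW 0 4)) = [[1, 3]] ∧ Sym.coord 44 (col (cW 0 8)) = [[1, 2]] ∧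
    Sym.coord 40 (col (cW 3 11)) = [[1, 2]] := by decide +kernel

theorem aW_low : ∀ a < 12, zerosOK (low a) (aW (at' a)) = true := by decide +kernel

variable {K : Type*} [Field K] (θ : K ≃+* K)

/-- one parameter -/
noncomputable def E (j : ℕ) (x : K) : GL chevF4.Idx K := P θ fun i => if i = j then x else 0

/-- two values -/
def c2 (s t : K) (i : ℕ) : K := if i = 0 then s else if i = 1 then t else 0

theorem val_c2 (s t : K) : val θ (c2 s t) 0 = s ∧ val θ (c2 s t) 1 = θ s ∧ val θ (c2 s t) 2 = t ∧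
    val θ (c2 s t) 3 = θ t := by
  simp [val, c2]

variable [CharP K 2]

theorem W_one1 {ρ : ℕ → K} {j : ℕ} {T T1 : Sym.Poly} {x : K} (h : Sym.ev ρ T = x) (h1 : Sym.ev ρ T1 = θ x) :
    W ρ (one1 j T T1) = E θ j x := by
  refine W_subst θ fun i hi => ?_
  simp only [gsub]
  simp only [val, hi, if_true]
  cases hb : Nat.beq (i / 2) j with
  | true =>
    obtain rfl := Nat.eq_of_beq_eq_true hb
    rcases Nat.mod_two_eq_zero_or_one i with h2 | h2
    · simp [h2, h]
    · simp [h2, h1, show Nat.beq 1 0 = false from rfl]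
  | false =>
    have : i / 2 ≠ j := fun e => by
      rw [e] at hb
      simp at hb
    simp [this, Sym.ev_nil]

theorem posW_one1 (j : ℕ) (T T1 : Sym.Poly) : posW (one1 j T T1) = true := posW_Pw _

theorem posW_cW (i j : ℕ) : posW (cW i j) = true :=
  posW_append (posW_append (posW_append (posW_one1 _ _ _) (posW_one1 _ _ _))
    (posW_reverse (posW_one1 _ _ _))) (posW_reverse (posW_one1 _ _ _))

theorem W_cW (i j : ℕ) (s t : K) : W (val θ (c2 s t)) (cW i j) = ⁅E θ i s, E θ j t⁆ := by
  obtain ⟨v0, v1, v2, v3⟩ := val_c2 θ s t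
  simp only [cW, W_append]
  rw [W_reverse _ (posW_one1 _ _ _), W_reverse _ (posW_one1 _ _ _),
    W_one1 θ (x := s) (by rw [Sym.ev_v, v0]) (by rw [Sym.ev_v, v1]),
    W_one1 θ (x := t) (by rw [Sym.ev_v, v2]) (by rw [Sym.ev_v, v3]), commutatorElement_def]

theorem W_aW (j : ℕ) (s t : K) : W (val θ (c2 s t)) (aW j) = (E θ j (s + t))⁻¹ * (E θ j s * E θ j t) := by
  obtain ⟨v0, v1, v2, v3⟩ := val_c2 θ s t
  simp only [aW, W_append]
  rw [W_reverse _ (posW_one1 _ _ _),
    W_one1 θ (x := s + t) (by rw [Sym.ev_padd, Sym.ev_v, Sym.ev_v, v0, v2])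
      (by rw [Sym.ev_padd, Sym.ev_v, Sym.ev_v, v1, v3, map_add]),
    W_one1 θ (x := s) (by rw [Sym.ev_v, v0]) (by rw [Sym.ev_v, v1]),
    W_one1 θ (x := t) (by rw [Sym.ev_v, v2]) (by rw [Sym.ev_v, v3]), mul_assoc]

theorem posW_allW : posW allW = true := by decide +kernel

theorem E_zero (j : ℕ) (hj : j < 12) : E θ j 0 = 1 := by
  have h : ∀ j < 12, strip (one1 j [] []) = [] := by decide +kernel
  rw [← W_one1 θ (ρ := fun _ => 0) (T := []) (T1 := []) (by rw [Sym.ev_nil]) (by rw [Sym.ev_nil, map_zero]),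
    ← strip_eq, h j hj]
  rfl

theorem P_prod (c : ℕ → K) : P θ c = ((List.range 12).map fun j => E θ j (c j)).prod := by
  rw [P, ← col_spec _ (posW_Pw _), ← allW_ok, col_spec _ posW_allW, allW]
  have key : ∀ l : List ℕ, (∀ j ∈ l, j < 12) →
      W (val θ c) (l.flatMap fun j => one1 j (Sym.v (2 * j)) (Sym.v (2 * j + 1))) =
        (l.map fun j => E θ j (c j)).prod := by
    intro l hl
    induction l with
    | nil => rfl
    | cons j l ih =>
      rw [List.flatMap_cons, W_append, ih fun x hx => hl x (List.mem_cons_of_mem _ hx), List.map_cons,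
        List.prod_cons, W_one1 θ (x := c j) (by rw [Sym.ev_v, val_even θ (hl j List.mem_cons_self)])
          (by rw [Sym.ev_v, val_odd θ (hl j List.mem_cons_self)])]
  exact key _ fun j hj => List.mem_range.1 hj

/-- an element of the fixed unipotent group whose word has vanishing low coordinates -/
theorem zero_of {c' : ℕ → K} {ρ : ℕ → K} {w : Sym.Word} (hw : posW w = true) (he : P θ c' = W ρ w) {os : List ℕ}
    (hos : ∀ o ∈ os, o < 12) (h : zerosOK os w = true) : ∀ o ∈ os, c' o = 0 := by
  simp only [zerosOK, Bool.and_eq_true, decide_eq_true_eq] at h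
  obtain ⟨hl, hgo⟩ := h
  have key : ∀ k, Sym.ev (val θ c') (Sym.coord k CP) = Sym.ev ρ (Sym.coord k (col w)) :=
    fun k => coord_eq (posW_Pw _) hw (by decide +kernel) hl he k
  have main : ∀ (l : List (ℕ × ℕ)) (acc : List ℕ), chkStep.go [] (col w) l acc = true →
      (∀ j ∈ acc, c' j = 0) → ∀ km ∈ l, c' (km.2 / 2) = 0 := by
    intro l
    induction l with
    | nil => intro _ _ _ km h; cases h
    | cons a l ih =>
      obtain ⟨k, m⟩ := a
      intro acc hl' hacc km hkm
      simp only [chkStep.go, Bool.and_eq_true, decide_eq_true_eq] at hl'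
      obtain ⟨⟨⟨⟨h1, hm⟩, h2⟩, h3⟩, h4⟩ := hl'
      have e := (read θ (one := 12) (c := c') ⟨hacc, fun h => absurd h (by norm_num)⟩ h2 k).symm.trans (key k)
      simp only [TF4Invol.memB, List.any_nil, Bool.or_false, List.isEmpty_iff] at h1
      rw [h3, h1, Sym.ev_v, Sym.ev_nil] at e
      have hz : c' (m / 2) = 0 := by
        simp only [val, hm, if_true] at e
        split at e
        · exact e
        · simpa using e
      rcases List.mem_cons.1 hkm with rfl | hkm
      · exact hz
      · refine ih _ h4 (fun j hj => ?_) km hkm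
        rcases List.mem_cons.1 hj with rfl | hj
        exacts [hz, hacc j hj]
  intro o ho
  have := main _ [] hgo (fun j h => by cases h) _ (List.mem_map.2 ⟨o, ho, rfl⟩)
  rwa [lead_div o (hos o ho)] at this

end CfsgLib.Lie.Mult.TF4Rel
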