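import Cfsg.Agent.Lib.Lie.Mult.TF4.Defining

/-!
# No multiplier of `²F₄(q)` at the prime two
-/

set_option autoImplicit false
set_option maxRecDepth 100000
set_option maxHeartbeats 400000
set_option linter.unusedSectionVars false

namespace CfsgLib.Lie.Mult.TF4Rel

open Cfsg.Lie CfsgLib.Lie CfsgLib.Lie.CharTwo CfsgLib.Lie.Chev TF4Invol
open scoped MatrixGroups

/-- the kernel of a stem extension is odd -/
theorem not_dvd_two {K : Type*} [Field K] [Fintype K] {m : ℕ} (hm : 1 ≤ m)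
    (hK : Fintype.card K = 2 ^ (2 * m + 1)) {Pr : Type*} [Group Pr] [Finite Pr]
    {τ : Pr →* ↥(twistedF4 K (2 ^ m))} (hτ : Cfsg.IsStemExtension τ) : ¬ 2 ∣ Nat.card τ.ker := by
  classical
  haveI : Fact (Nat.Prime 2) := ⟨Nat.prime_two⟩
  obtain ⟨hc, θ, hsq, hθ⟩ := TF4.exists_theta hK
  obtain ⟨-, hU, -, hG, -⟩ := TF4.summary (m := m) hK
  have hP : TwGp (TF4.orbits θ hsq) (twistedF4 K (2 ^ m)) := TF4.twGp θ hsq hθ
  set q := 2 ^ (2 * m + 1) with hq
  have hs := card_params hsq hP hU (by rw [Nat.card_eq_fintype_card, hK])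
  have h4 : 4 < Fintype.card K := by
    rw [hK, hq]
    calc 4 < 2 ^ 3 := by norm_num
      _ ≤ 2 ^ (2 * m + 1) := Nat.pow_le_pow_right (by norm_num) (by omega)
  set S := (chevF4.posUnipotent K ⊓ twistedF4 K (2 ^ m)).subgroupOf (twistedF4 K (2 ^ m))
  set T := Ladder.tail (layer θ hsq hP) 12 0 with hT
  have hle : S ≤ T := by
    intro g hg
    rw [Subgroup.mem_subgroupOf, hP.U_eq] at hg
    obtain ⟨c, hc⟩ := hs _ hg
    have : g = ((List.range 12).map fun j => Eg θ hsq hP j (c j)).prod := by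
      refine Subtype.ext ?_
      rw [← hc, P_prod θ c]
      simp only [SubmonoidClass.coe_list_prod, List.map_map]
      rfl
    rw [this]
    refine prod_mem_of_zero θ hsq hP fun j hj => Or.inr fun x => ?_
    exact Ladder.mem_tail (Nat.zero_le _) (ord_facts.1 j hj).2 ⟨x, by rw [(ord_facts.1 j hj).1]⟩
  have hScard : Nat.card S = q ^ 12 := by
    rw [Nat.card_congr (Subgroup.subgroupOfEquivOfLe inf_le_right).toEquiv, hU]
  have hidx : ¬ 2 ∣ S.index := by
    have hm' := Subgroup.card_mul_index S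
    rw [hScard, hG, mul_assoc, mul_assoc, mul_assoc] at hm'
    have hq0 : 0 < q ^ 12 := by positivity
    rw [Nat.eq_of_mul_eq_mul_left hq0 hm']
    have hev : Even q := by rw [hq]; exact Nat.even_pow.2 ⟨even_two, by omega⟩
    have h1 : 1 ≤ q := by rw [hq]; exact Nat.one_le_two_pow
    rw [← even_iff_two_dvd, Nat.not_even_iff_odd]
    simp only [Nat.odd_mul]
    exact ⟨Nat.Even.sub_odd h1 hev odd_one, (hev.pow_of_ne_zero (by norm_num)).add_odd odd_one,
      Nat.Even.sub_odd (Nat.one_le_pow _ _ h1) (hev.pow_of_ne_zero (by norm_num)) odd_one,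
      (hev.pow_of_ne_zero (by norm_num)).add_odd odd_one⟩
  refine not_dvd_ker_of_preimage hτ T (fun h => hidx (h.trans (Subgroup.index_dvd_of_le hle)))
    fun z hz hz' _ => ?_
  exact inter θ hsq hP hs hτ.2.1 (L := Function.surjInv hτ.1) (Function.surjInv_eq hτ.1) h4 hz hz'

end CfsgLib.Lie.Mult.TF4Rel
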